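import Cfsg.Agent.PSolvablePairs.Values
import Cfsg.Agent.LocalStructure.Elements
import Cfsg.Agent.PLocal.PSolvable

/-!
# Pairs of elements of order `p` generating `p`-solvable subgroups

With an abelian Sylow `p`-subgroup such a pair `x, y` has `(x y)_p ^ p = 1`, and at most one `i` in
`[1, p - 1]` makes `x y ^ i` `p`-regular. Hence at most the fraction `1 / (p - 1)` of all pairs have
`p`-regular product and the others land in `S`; by the class multiplication formula
`∑ T³ / χ(1) ≥ w² e q (p - 2) / (p - 1)` over the principal block.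
-/

set_option autoImplicit false
set_option linter.style.haveILetI false
set_option linter.unusedSectionVars false

namespace CfsgLib.PSolvablePairs

open Cfsg CfsgLib.Blocks CfsgLib.BlocksFrobenius
open scoped ComplexConjugate

universe u

variable {G : Type u} [Group G] [Fintype G] {p : ℕ} [Fact p.Prime]

/-- What is used about a pair of elements of order `p`. -/
structure PairHyp (G : Type u) [Group G] [Fintype G] (p : ℕ) : Prop where
  order : ∀ x ∈ ordAll G p, ∀ y ∈ ordAll G p, (¬ p ∣ orderOf (x * y)) ∨ x * y ∈ secAll G p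
  unique : ∀ x ∈ ordAll G p, ∀ y ∈ ordAll G p, ∀ i j : (ZMod p)ˣ,
    ¬ p ∣ orderOf (x * y ^ (i : ZMod p).val) → ¬ p ∣ orderOf (x * y ^ (j : ZMod p).val) → i = j

/-- An element of `p`-power order vanishes in a group when its order is prime to `p`. -/
theorem eq_one_of_pow_of_coprime {Q : Type*} [Group Q] {z : Q} (h1 : z ^ p = 1)
    (h2 : ¬ p ∣ orderOf z) : z = 1 := by
  rw [← orderOf_eq_one_iff]
  rcases (Fact.out : p.Prime).eq_one_or_self_of_dvd _ (orderOf_dvd_of_pow_eq_one h1) with e | e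
  · exact e
  · exact absurd (dvd_of_eq e.symm) h2

/-- A `p`-solvable group generated by two elements of order `p`, with abelian Sylow
`p`-subgroups, has elementary abelian quotient by its `p'`-core. -/
theorem quotient_exponent {X : Type u} [Group X] [Finite X] (hX : Cfsg.IsPSolvable p X)
    (hab : ∀ S : Sylow p X, ∀ a ∈ (S : Subgroup X), ∀ b ∈ (S : Subgroup X), a * b = b * a)
    {x y : X} (hx : x ^ p = 1) (hy : y ^ p = 1)
    (hgen : Subgroup.closure ({x, y} : Set X) = ⊤) (z : X) :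
    z ^ p ∈ Cfsg.pPrimeCore p X := by
  set K := Cfsg.pPrimeCore p X with hK
  set π := QuotientGroup.mk' K with hπdef
  have hπ := QuotientGroup.mk'_surjective K
  have hs := PLocal.isPSolvable_quotient hX K
  have hO : Cfsg.pPrimeCore p (X ⧸ K) = ⊥ := PLocal.pPrimeCore_quotient_pPrimeCore_eq_bot p X
  set R := Cfsg.pCore p (X ⧸ K) with hR
  have habQ : ∀ S : Sylow p (X ⧸ K), ∀ a ∈ (S : Subgroup (X ⧸ K)),
      ∀ b ∈ (S : Subgroup (X ⧸ K)), a * b = b * a := by
    intro S a ha b hb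
    obtain ⟨T, rfl⟩ := Sylow.mapSurjective_surjective hπ p S
    rw [Sylow.coe_mapSurjective] at ha hb
    obtain ⟨a', ha', rfl⟩ := ha
    obtain ⟨b', hb', rfl⟩ := hb
    rw [← map_mul, ← map_mul, hab T a' ha' b' hb']
  have hle : ∀ S : Sylow p (X ⧸ K), (S : Subgroup (X ⧸ K)) ≤ R := fun S a ha =>
    PLocal.centralizer_pCore_le hs hO (Subgroup.mem_centralizer_iff.2 fun b hb =>
      habQ S b (PLocal.pCore_le_sylow S hb) a ha)
  have hRcomm : ∀ a ∈ R, ∀ b ∈ R, a * b = b * a := by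
    obtain ⟨S⟩ := (inferInstance : Nonempty (Sylow p (X ⧸ K)))
    exact fun a ha b hb => habQ S a (PLocal.pCore_le_sylow S ha) b (PLocal.pCore_le_sylow S hb)
  have hin : ∀ g : X, g ^ p = 1 → π g ∈ R := by
    intro g hg
    have hg' : π g ^ (p ^ 1) = 1 := by rw [pow_one, ← map_pow, hg, map_one]
    have hzp : IsPGroup p (Subgroup.zpowers (π g)) := by
      obtain ⟨k, -, hk⟩ := (Nat.dvd_prime_pow (Fact.out : p.Prime)).1
        (orderOf_dvd_of_pow_eq_one hg')
      exact IsPGroup.of_card (n := k) (by rw [Nat.card_zpowers, hk])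
    obtain ⟨S, hS⟩ := hzp.exists_le_sylow
    exact hle S (hS (Subgroup.mem_zpowers _))
  have htop : ∀ g : X, π g ∈ R ∧ π g ^ p = 1 := by
    intro g
    have hg : g ∈ Subgroup.closure ({x, y} : Set X) := hgen ▸ Subgroup.mem_top g
    refine Subgroup.closure_induction (p := fun g _ => π g ∈ R ∧ π g ^ p = 1) ?_ ?_ ?_ ?_ hg
    · rintro g (rfl | rfl)
      · exact ⟨hin _ hx, by rw [← map_pow, hx, map_one]⟩
      · exact ⟨hin _ hy, by rw [← map_pow, hy, map_one]⟩
    · exact ⟨by rw [map_one]; exact one_mem R, by rw [map_one, one_pow]⟩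
    · intro a b _ _ ha hb
      refine ⟨by rw [map_mul]; exact mul_mem ha.1 hb.1, ?_⟩
      rw [map_mul, (show Commute (π a) (π b) from hRcomm _ ha.1 _ hb.1).mul_pow, ha.2, hb.2, mul_one]
    · intro a _ ha
      exact ⟨by rw [map_inv]; exact inv_mem ha.1, by rw [map_inv, inv_pow, ha.2, inv_one]⟩
  rw [← QuotientGroup.eq_one_iff]
  have h1 := (htop z).2
  rwa [← map_pow] at h1

open Classical in
theorem pairHyp (P : Sylow p G)
    (hcomm : ∀ a ∈ (P : Subgroup G), ∀ b ∈ (P : Subgroup G), a * b = b * a)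
    (hpair : ∀ x y : G, orderOf x = p → orderOf y = p →
      Cfsg.IsPSolvable p ↥(Subgroup.closure ({x, y} : Set G))) : PairHyp G p := by
  have hp : p.Prime := Fact.out
  have hdata : ∀ x ∈ ordAll G p, ∀ y ∈ ordAll G p,
      ∃ K : Subgroup (Subgroup.closure ({x, y} : Set G)), K.Normal ∧ ¬ p ∣ Nat.card K ∧
        ∀ z : Subgroup.closure ({x, y} : Set G), z ^ p ∈ K := by
    intro x hx y hy
    set X := Subgroup.closure ({x, y} : Set G) with hX
    have hcard : ¬ p ∣ Nat.card (Cfsg.pPrimeCore p X) :=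
      fun hd => (Fact.out : p.Prime).coprime_iff_not_dvd.1 (PLocal.coprime_card_pPrimeCore p X).symm hd
    refine ⟨Cfsg.pPrimeCore p X, inferInstance, hcard, fun z => ?_⟩
    refine quotient_exponent (hpair x y (mem_ordAll.1 hx) (mem_ordAll.1 hy)) (fun S a ha b hb => ?_)
      (x := ⟨x, Subgroup.subset_closure (Set.mem_insert x _)⟩)
      (y := ⟨y, Subgroup.subset_closure (Set.mem_insert_of_mem _ rfl)⟩)
      (Subtype.ext (by simpa [mem_ordAll.1 hx] using pow_orderOf_eq_one x))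
      (Subtype.ext (by simpa [mem_ordAll.1 hy] using pow_orderOf_eq_one y)) ?_ z
    · obtain ⟨Q, hQ⟩ := (S.2.map X.subtype).exists_le_sylow
      obtain ⟨g, hg⟩ := MulAction.exists_smul_eq G Q P
      have hmem : ∀ a ∈ (S : Subgroup X), g * (a : G) * g⁻¹ ∈ (P : Subgroup G) := fun a ha => by
        rw [← hg]
        exact ⟨a, hQ ⟨a, ha, rfl⟩, rfl⟩
      have h1 := hcomm _ (hmem a ha) _ (hmem b hb)
      refine Subtype.ext ?_
      show (a : G) * (b : G) = (b : G) * (a : G)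
      have h2 : g * ((a : G) * (b : G)) * g⁻¹ = g * ((b : G) * (a : G)) * g⁻¹ :=
        (show g * ((a : G) * (b : G)) * g⁻¹ = g * (a : G) * g⁻¹ * (g * (b : G) * g⁻¹) by group).trans
          (h1.trans (by group))
      exact mul_left_cancel (mul_right_cancel h2)
    · refine (Subgroup.map_injective X.subtype_injective) ?_
      rw [MonoidHom.map_closure, ← MonoidHom.range_eq_map, Subgroup.range_subtype]
      simp [Set.image_insert_eq, hX]
  refine ⟨fun x hx y hy => ?_, fun x hx y hy i j hi hj => ?_⟩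
  · obtain ⟨K, hKn, hK, hexp⟩ := hdata x hx y hy
    obtain ⟨a, b, haz', hbz, ⟨k, hk⟩, hb, hab⟩ := LocalStructure.exists_pPart_mul (p := p)
      (⟨x * y, mul_mem (Subgroup.subset_closure (Set.mem_insert x _))
        (Subgroup.subset_closure (Set.mem_insert_of_mem _ rfl))⟩ : Subgroup.closure ({x, y} : Set G))
    have haz : Commute a b := by
      obtain ⟨i, hi⟩ := Subgroup.mem_zpowers_iff.1 haz'
      obtain ⟨j, hj⟩ := Subgroup.mem_zpowers_iff.1 hbz
      rw [← hi, ← hj]
      exact Commute.zpow_zpow_self _ i j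
    have hap : a ^ p = 1 := by
      have hmem := hexp a
      have h1 : orderOf (a ^ p) ∣ Nat.card K := by
        rw [← Subgroup.orderOf_mk (a ^ p) hmem]; exact orderOf_dvd_natCard _
      have h2 : orderOf (a ^ p) ∣ p ^ k := hk ▸ orderOf_pow_dvd p
      exact orderOf_eq_one_iff.1 (Nat.eq_one_of_dvd_coprimes
        ((hp.coprime_iff_not_dvd.2 hK).pow_left k) h2 h1)
    by_cases ha1 : a = 1
    · left
      rw [ha1, one_mul] at hab
      rw [hp.coprime_iff_not_dvd.symm, Nat.coprime_comm]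
      rw [show x * y = ((b : Subgroup.closure ({x, y} : Set G)) : G) from (congrArg Subtype.val hab).symm, Subgroup.orderOf_coe]
      exact hb
    · right
      refine mem_secAll.2 ⟨(a : G), ⟨(b : G), ?_, ?_, ⟨1, ?_⟩, ?_⟩, ?_⟩
      · exact congrArg Subtype.val hab
      · exact haz.map (Subgroup.closure ({x, y} : Set G)).subtype
      · rw [pow_one, Subgroup.orderOf_coe, orderOf_eq_prime hap ha1]
      · rw [Subgroup.orderOf_coe, ← hp.coprime_iff_not_dvd]; exact hb.symm
      · rw [Subgroup.orderOf_coe, orderOf_eq_prime hap ha1]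
  · obtain ⟨K, hKn, hK, hexp⟩ := hdata x hx y hy
    set x' : Subgroup.closure ({x, y} : Set G) := ⟨x, Subgroup.subset_closure (Set.mem_insert x _)⟩ with hx'
    set y' : Subgroup.closure ({x, y} : Set G) := ⟨y, Subgroup.subset_closure (Set.mem_insert_of_mem _ rfl)⟩ with hy'
    have hkill : ∀ n : ℕ, ¬ p ∣ orderOf (x * y ^ n) → (QuotientGroup.mk' K) (x' * y' ^ n) = 1 := by
      intro n hn
      refine eq_one_of_pow_of_coprime (p := p) ?_ fun hd => hn ?_
      · rw [← map_pow]; exact (QuotientGroup.eq_one_iff _).2 (hexp _)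
      · have e : x * y ^ n = ((x' * y' ^ n : Subgroup.closure ({x, y} : Set G)) : G) := rfl
        rw [e, Subgroup.orderOf_coe]
        exact hd.trans (orderOf_map_dvd _ _)
    have hyp : orderOf y' = p := by rw [← Subgroup.orderOf_coe]; exact mem_ordAll.1 hy
    have hy1 : orderOf ((QuotientGroup.mk' K) y') = p := by
      refine orderOf_eq_prime (by rw [← map_pow, ← hyp, pow_orderOf_eq_one, map_one]) fun e => hK ?_
      rw [← hyp, ← Subgroup.orderOf_mk y' ((QuotientGroup.eq_one_iff _).1 e)]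
      exact orderOf_dvd_natCard _
    have h1 := hkill _ hi
    have h2 := hkill _ hj
    rw [map_mul, map_pow] at h1 h2
    have h3 := mul_left_cancel (h1.trans h2.symm)
    rw [pow_eq_pow_iff_modEq, hy1, ← ZMod.natCast_eq_natCast_iff, ZMod.natCast_zmod_val,
      ZMod.natCast_zmod_val] at h3
    exact Units.ext h3

open Classical in
/-- At most the fraction `1 / (p - 1)` of the pairs have `p`-regular product. -/
theorem PairHyp.count (hH : PairHyp G p) :
    (p - 1) * ((ordAll G p ×ˢ ordAll G p).filter fun z : G × G =>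
        ¬ p ∣ orderOf (z.1 * z.2)).card ≤ (ordAll G p).card ^ 2 ∧
      ((ordAll G p ×ˢ ordAll G p).filter fun z : G × G => ¬ p ∣ orderOf (z.1 * z.2)).card +
        ((ordAll G p ×ˢ ordAll G p).filter fun z : G × G => z.1 * z.2 ∈ secAll G p).card =
          (ordAll G p).card ^ 2 := by
  have hp : p.Prime := Fact.out
  refine ⟨?_, ?_⟩
  swap
  · rw [sq, ← Finset.card_product, ← Finset.card_union_of_disjoint ?_]
    · congr 1
      refine Finset.Subset.antisymm (Finset.union_subset (Finset.filter_subset _ _)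
        (Finset.filter_subset _ _)) fun z hz => ?_
      rcases hH.order _ (Finset.mem_product.1 hz).1 _ (Finset.mem_product.1 hz).2 with h | h
      · exact Finset.mem_union_left _ (Finset.mem_filter.2 ⟨hz, h⟩)
      · exact Finset.mem_union_right _ (Finset.mem_filter.2 ⟨hz, h⟩)
    · refine Finset.disjoint_filter.2 fun z _ h1 h2 => h1 ?_
      obtain ⟨a, ⟨b, hb, hc, -, hb'⟩, ha⟩ := mem_secAll.1 h2
      rw [← hb, hc.orderOf_mul_eq_mul_orderOf_of_coprime (by
        rw [ha]; exact hp.coprime_iff_not_dvd.2 hb'), ha]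
      exact dvd_mul_right _ _
  set Ω := ordAll G p
  set R := (Ω ×ˢ Ω).filter fun z : G × G => ¬ p ∣ orderOf (z.1 * z.2)
  set T := fun i : (ZMod p)ˣ =>
    (Ω ×ˢ Ω).filter fun z : G × G => ¬ p ∣ orderOf (z.1 * z.2 ^ (i : ZMod p).val)
  have hpow : ∀ (i : (ZMod p)ˣ) (y : G), y ∈ Ω → y ^ (i : ZMod p).val ∈ Ω ∧
      (y ^ (i : ZMod p).val) ^ ((i⁻¹ : (ZMod p)ˣ) : ZMod p).val = y := by
    intro i y hy
    have ho := mem_ordAll.1 hy
    refine ⟨mem_ordAll.2 ?_, ?_⟩
    · rw [(Nat.Coprime.orderOf_pow ?_), ho]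
      rw [ho]
      exact (ZMod.val_coe_unit_coprime i).symm
    · rw [← pow_mul]
      conv_rhs => rw [← pow_one y]
      rw [pow_eq_pow_iff_modEq, ho, ← ZMod.natCast_eq_natCast_iff, Nat.cast_mul,
        ZMod.natCast_zmod_val, ZMod.natCast_zmod_val, Nat.cast_one, ← Units.val_mul,
        mul_inv_cancel, Units.val_one]
  have hT : ∀ i, (T i).card = R.card := fun i => by
    refine Finset.card_bij' (fun z _ => (z.1, z.2 ^ (i : ZMod p).val))
      (fun z _ => (z.1, z.2 ^ ((i⁻¹ : (ZMod p)ˣ) : ZMod p).val)) (fun z hz => ?_) (fun z hz => ?_)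
      (fun z hz => ?_) (fun z hz => ?_)
    · obtain ⟨h1, h2⟩ := Finset.mem_filter.1 hz
      exact Finset.mem_filter.2 ⟨Finset.mem_product.2 ⟨(Finset.mem_product.1 h1).1,
        (hpow i _ (Finset.mem_product.1 h1).2).1⟩, h2⟩
    · obtain ⟨h1, h2⟩ := Finset.mem_filter.1 hz
      refine Finset.mem_filter.2 ⟨Finset.mem_product.2 ⟨(Finset.mem_product.1 h1).1,
        (hpow i⁻¹ _ (Finset.mem_product.1 h1).2).1⟩, ?_⟩
      have h3 := (hpow i⁻¹ _ (Finset.mem_product.1 h1).2).2
      rw [inv_inv] at h3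
      show ¬ p ∣ orderOf (z.1 * (z.2 ^ ((i⁻¹ : (ZMod p)ˣ) : ZMod p).val) ^ (i : ZMod p).val)
      rw [h3]
      exact h2
    · exact Prod.ext rfl (hpow i _ (Finset.mem_product.1 (Finset.mem_filter.1 hz).1).2).2
    · refine Prod.ext rfl ?_
      have h3 := (hpow i⁻¹ _ (Finset.mem_product.1 (Finset.mem_filter.1 hz).1).2).2
      rwa [inv_inv] at h3
  have hcardU : Fintype.card (ZMod p)ˣ = p - 1 := ZMod.card_units p
  calc (p - 1) * R.card = ∑ i : (ZMod p)ˣ, (T i).card := by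
        rw [Finset.sum_congr rfl fun i _ => hT i, Finset.sum_const, Finset.card_univ, hcardU,
          smul_eq_mul]
    _ = ((Finset.univ : Finset (ZMod p)ˣ).biUnion T).card := by
        refine (Finset.card_biUnion fun i _ j _ hij => Finset.disjoint_left.2 fun z h1 h2 => hij ?_).symm
        obtain ⟨h0, h1⟩ := Finset.mem_filter.1 h1
        exact hH.unique _ (Finset.mem_product.1 h0).1 _ (Finset.mem_product.1 h0).2 i j h1
          (Finset.mem_filter.1 h2).2
    _ ≤ (Ω ×ˢ Ω).card := Finset.card_le_card (Finset.biUnion_subset.2 fun i _ => Finset.filter_subset _ _)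
    _ = Ω.card ^ 2 := by rw [Finset.card_product, sq]

open Classical in
/-- The lower bound for `∑ T³ / χ(1)` over the principal block. -/
theorem cube_bound {P : Sylow p G} {e c : ℕ} (hH : PairHyp G p) (hU : Uniform P e c)
    (h : Semireg P) {M : Ideal AlgInt} [M.IsPrime] (hM : Cfsg.IsPModular p M)
    (hne : (ordSet P).Nonempty) :
    ((ordSet P).card : ℝ) ^ 2 * (e * Nat.card (P : Subgroup G)) * ((p : ℝ) - 2) ≤
      ((p : ℝ) - 1) * ∑ χ : IrrCharacter G, (if χ ∈ Cfsg.principalBlock M G then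
        (tsum P (χ : G → ℂ)).re ^ 3 / ((χ : G → ℂ) 1).re else 0) := by
  have hp : p.Prime := Fact.out
  obtain ⟨hcnt, htot⟩ := hH.count
  set Ω := ordAll G p
  set S := secAll G p with hS
  set q := Nat.card (P : Subgroup G) with hq
  set w := (ordSet P).card with hw
  set NS := ((Ω ×ˢ Ω).filter fun z : G × G => z.1 * z.2 ∈ S).card with hNS
  obtain ⟨y₀, hy₀⟩ := hne
  have he : 0 < e := by
    rw [← hU.count y₀ hy₀]
    exact Finset.card_pos.2 ⟨y₀, Finset.mem_filter.2 ⟨hy₀, IsConj.refl _⟩⟩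
  have hc : 0 < c := by rw [← hU.cent y₀ hy₀]; exact Nat.card_pos
  have hg : (Nat.card G : ℂ) ≠ 0 := Characters.natCard_ne_zero
  -- `|Ω|`
  have hΩ : (e * c * Ω.card : ℕ) = Nat.card G * w := by
    have h1 := hU.sum_ordAll (F := fun _ => (1 : ℂ)) (fun _ _ => rfl)
    simp only [tsum, Finset.sum_const, nsmul_eq_mul, mul_one] at h1
    exact_mod_cast h1
  -- the indicator of `S`
  set F : G → ℂ := fun g => if g ∈ S then 1 else 0 with hF
  have hFc : Cfsg.IsClassFunction G F := by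
    intro g t
    have key : ∀ a b : G, a ∈ S → b * a * b⁻¹ ∈ S := fun a b ha => by
      obtain ⟨z, hz, hzo⟩ := mem_secAll.1 ha
      exact mem_secAll.2 ⟨_, isPPart_conj hz b, by rw [orderOf_conj]; exact hzo⟩
    simp only [hF]
    refine if_congr ⟨fun h => ?_, fun h => key g t h⟩ rfl rfl
    have := key _ t⁻¹ h
    rwa [show t⁻¹ * (t * g * t⁻¹) * t⁻¹⁻¹ = g by group] at this
  have hsum := sum_set_pairs_class hFc (ordAll_conj (G := G) (p := p))
  rw [show (∑ z ∈ Ω ×ˢ Ω, F (z.1 * z.2)) = (NS : ℂ) by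
    simp only [hF, hNS, Finset.sum_boole]] at hsum
  -- the terms
  have hterm : ∀ χ : IrrCharacter G,
      ((e * q : ℕ) : ℂ) * ((e * c : ℕ) : ℂ) ^ 2 *
          (Cfsg.classInner F (χ : G → ℂ) * ((∑ x ∈ Ω, (χ : G → ℂ) x) ^ 2 / (χ : G → ℂ) 1)) =
        (Nat.card G : ℂ) ^ 2 * (((if χ ∈ Cfsg.principalBlock M G then
          (tsum P (χ : G → ℂ)).re ^ 3 / ((χ : G → ℂ) 1).re else 0 : ℝ)) : ℂ) := by
    intro χ
    have h1 := congrArg conj (hU.sum_secAll h hM χ)
    have h2 := hU.sum_ordAll (Characters.isClassFunction_of_isIrr χ.2)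
    have h3 : Cfsg.classInner F (χ : G → ℂ) =
        (Nat.card G : ℂ)⁻¹ * conj (∑ g ∈ S, (χ : G → ℂ) g) := by
      rw [Cfsg.classInner, map_sum]
      simp only [hF, ite_mul, one_mul, zero_mul, ← Finset.sum_filter]
      congr 2
      ext g
      simp
    obtain ⟨d, hd0, hd⟩ := Characters.exists_degree_pos χ.2
    have hT : ((tsum P (χ : G → ℂ)).re : ℂ) = tsum P (χ : G → ℂ) :=
      Complex.conj_eq_iff_re.1 (tsum_inv χ)
    rw [map_mul, map_natCast, map_mul, map_natCast] at h1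
    rw [h3]
    set σ := conj (∑ g ∈ secAll G p, (χ : G → ℂ) g) with hσ
    set Ψ := ∑ x ∈ Ω, (χ : G → ℂ) x with hΨ
    calc ((e * q : ℕ) : ℂ) * ((e * c : ℕ) : ℂ) ^ 2 *
          ((Nat.card G : ℂ)⁻¹ * σ * (Ψ ^ 2 / (χ : G → ℂ) 1))
        = (Nat.card G : ℂ)⁻¹ * (((e * q : ℕ) : ℂ) * σ) * (((e * c : ℕ) : ℂ) * Ψ) ^ 2 /
            (χ : G → ℂ) 1 := by ring
      _ = _ := by
        rw [h1, h2, hd, Complex.natCast_re]
        split_ifs
        · push_cast
          rw [tsum_inv, hT]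
          field_simp
        · simp
  have hmain : ((e * q : ℕ) : ℂ) * ((e * c : ℕ) : ℂ) ^ 2 * (NS : ℂ) =
      (Nat.card G : ℂ) ^ 2 * ((∑ χ : IrrCharacter G, (if χ ∈ Cfsg.principalBlock M G then
        (tsum P (χ : G → ℂ)).re ^ 3 / ((χ : G → ℂ) 1).re else 0) : ℝ) : ℂ) := by
    rw [hsum, Finset.mul_sum, Complex.ofReal_sum, Finset.mul_sum]
    exact Finset.sum_congr rfl fun χ _ => hterm χ
  set Tot := ∑ χ : IrrCharacter G, (if χ ∈ Cfsg.principalBlock M G then
    (tsum P (χ : G → ℂ)).re ^ 3 / ((χ : G → ℂ) 1).re else 0) with hTot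
  have hmainR : ((e : ℝ) * q) * ((e : ℝ) * c) ^ 2 * (NS : ℝ) = (Nat.card G : ℝ) ^ 2 * Tot := by
    have h1 := congrArg Complex.re hmain
    rw [show ((e * q : ℕ) : ℂ) * ((e * c : ℕ) : ℂ) ^ 2 * (NS : ℂ) =
      ((((e : ℝ) * q) * ((e : ℝ) * c) ^ 2 * (NS : ℝ) : ℝ) : ℂ) by push_cast; ring,
      show (Nat.card G : ℂ) ^ 2 * (Tot : ℂ) = (((Nat.card G : ℝ) ^ 2 * Tot : ℝ) : ℂ) by
        push_cast; ring, Complex.ofReal_re, Complex.ofReal_re] at h1
    exact h1
  set NR := ((Ω ×ˢ Ω).filter fun z : G × G => ¬ p ∣ orderOf (z.1 * z.2)).card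
  have hcntR : ((p : ℝ) - 1) * NR ≤ (Ω.card : ℝ) ^ 2 := by
    have : (((p - 1) * NR : ℕ) : ℝ) ≤ ((Ω.card ^ 2 : ℕ) : ℝ) := by exact_mod_cast hcnt
    push_cast [Nat.cast_sub hp.one_le] at this
    linarith
  have htotR : (NR : ℝ) + NS = (Ω.card : ℝ) ^ 2 := by exact_mod_cast htot
  have hNSge : ((p : ℝ) - 2) * (Ω.card : ℝ) ^ 2 ≤ ((p : ℝ) - 1) * NS := by
    rw [← htotR] at hcntR ⊢
    nlinarith
  have hΩR : (e : ℝ) * c * Ω.card = Nat.card G * w := by exact_mod_cast hΩ
  have hG : (0 : ℝ) < (Nat.card G : ℝ) ^ 2 := by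
    have : (0 : ℝ) < Nat.card G := Nat.cast_pos.2 Nat.card_pos
    positivity
  refine le_of_mul_le_mul_left ?_ hG
  calc (Nat.card G : ℝ) ^ 2 * ((w : ℝ) ^ 2 * (e * q) * ((p : ℝ) - 2))
      = ((e : ℝ) * q) * ((e : ℝ) * c) ^ 2 * (((p : ℝ) - 2) * (Ω.card : ℝ) ^ 2) := by
        linear_combination (-((e : ℝ) * q * ((p : ℝ) - 2)) * ((e : ℝ) * c * Ω.card + Nat.card G * w)) * hΩR
    _ ≤ ((e : ℝ) * q) * ((e : ℝ) * c) ^ 2 * (((p : ℝ) - 1) * NS) :=
        mul_le_mul_of_nonneg_left hNSge (by positivity)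
    _ = (Nat.card G : ℝ) ^ 2 * (((p : ℝ) - 1) * Tot) := by linear_combination ((p : ℝ) - 1) * hmainR

/-- Summation of the per-character bound. -/
theorem cube_sum_absurd {ι : Type*} (s : Finset ι) (T d : ι → ℝ) {w m r : ℝ} {i₀ : ι}
    (hi₀ : i₀ ∈ s) (hT₀ : T i₀ = w) (hd₀ : d i₀ = 1) (hw : 0 < w) (hd : ∀ i ∈ s, 0 < d i)
    (hm : 0 < m) (hr : 0 ≤ r) (hdT : ∑ i ∈ s, d i * T i = 0)
    (hsq : ∑ i ∈ s, T i ^ 2 = w ^ 2 + w * m)
    (hcube : w ^ 3 + w * r ≤ ∑ i ∈ s, T i ^ 3 / d i)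
    (hper : ∀ i ∈ s, i ≠ i₀ → T i * m ≤ d i * r) : False := by
  classical
  rw [← Finset.add_sum_erase _ _ hi₀, hT₀] at hsq hcube
  rw [← Finset.add_sum_erase _ _ hi₀, hT₀, hd₀] at hdT
  rw [hd₀, div_one] at hcube
  obtain ⟨j, hj, hjneg⟩ : ∃ j ∈ s.erase i₀, T j < 0 := by
    by_contra hno
    push Not at hno
    have : 0 ≤ ∑ i ∈ s.erase i₀, d i * T i := Finset.sum_nonneg fun i hi =>
      mul_nonneg (hd i (Finset.mem_of_mem_erase hi)).le (hno i hi)
    linarith
  have hlt : ∑ i ∈ s.erase i₀, T i ^ 3 / d i * m < ∑ i ∈ s.erase i₀, T i ^ 2 * r := by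
    refine Finset.sum_lt_sum (fun i hi => ?_) ⟨j, hj, ?_⟩
    · have hdi := hd i (Finset.mem_of_mem_erase hi)
      rw [div_mul_eq_mul_div, div_le_iff₀ hdi]
      calc T i ^ 3 * m = T i ^ 2 * (T i * m) := by ring
        _ ≤ T i ^ 2 * (d i * r) := mul_le_mul_of_nonneg_left
            (hper i (Finset.mem_of_mem_erase hi) (Finset.mem_erase.1 hi).1) (sq_nonneg _)
        _ = T i ^ 2 * r * d i := by ring
    · have hdj := hd j (Finset.mem_of_mem_erase hj)
      refine lt_of_lt_of_le ?_ (mul_nonneg (sq_nonneg _) hr)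
      refine mul_neg_of_neg_of_pos (div_neg_of_neg_of_pos ?_ hdj) hm
      exact Odd.pow_neg (by decide) hjneg
  rw [← Finset.sum_mul, ← Finset.sum_mul, show ∑ i ∈ s.erase i₀, T i ^ 2 = w * m by linarith] at hlt
  have : w * r * m ≤ (∑ i ∈ s.erase i₀, T i ^ 3 / d i) * m :=
    mul_le_mul_of_nonneg_right (by linarith) hm.le
  linarith

open Classical in
/-- The contradiction from a bound on each character. -/
theorem false_of_per {P : Sylow p G} {e c : ℕ} (hH : PairHyp G p) (hU : Uniform P e c)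
    (h : Semireg P) {M : Ideal AlgInt} [M.IsPrime] (hM : Cfsg.IsPModular p M)
    (hne : (ordSet P).Nonempty) (hm : (ordSet P).card < e * Nat.card (P : Subgroup G))
    (hr : (ordSet P).card * (p - 1) ≤ e * Nat.card (P : Subgroup G) * (p - 2))
    (hper : ∀ χ : IrrCharacter G, χ ∈ Cfsg.principalBlock M G → χ ≠ PrincipalBlock.trivChar G →
      (tsum P (χ : G → ℂ)).re *
          (((e * Nat.card (P : Subgroup G) : ℕ) : ℝ) - (ordSet P).card) * ((p : ℝ) - 1) ≤
        ((χ : G → ℂ) 1).re * ((ordSet P).card : ℝ) *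
          (((e * Nat.card (P : Subgroup G) : ℕ) : ℝ) * ((p : ℝ) - 2) -
            (ordSet P).card * ((p : ℝ) - 1))) : False := by
  have hp : p.Prime := Fact.out
  set w := (ordSet P).card with hw
  set q := Nat.card (P : Subgroup G) with hq
  have hp1 : (0 : ℝ) < (p : ℝ) - 1 := by
    have : (2 : ℝ) ≤ p := by exact_mod_cast hp.two_le
    linarith
  have hw0 : (0 : ℝ) < w := by exact_mod_cast hne.card_pos
  have hcb := cube_bound hH hU h hM hne
  set s := (Finset.univ : Finset (IrrCharacter G)).filter fun χ => χ ∈ Cfsg.principalBlock M G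
  have hmem : PrincipalBlock.trivChar G ∈ s :=
    Finset.mem_filter.2 ⟨Finset.mem_univ _, PrincipalBlock.trivChar_mem⟩
  refine cube_sum_absurd s (fun χ => (tsum P (χ : G → ℂ)).re) (fun χ => ((χ : G → ℂ) 1).re)
    (w := w) (m := ((e * q : ℕ) : ℝ) - w)
    (r := (w : ℝ) * (((e * q : ℕ) : ℝ) * ((p : ℝ) - 2) - w * ((p : ℝ) - 1)) / ((p : ℝ) - 1))
    hmem ?_ ?_ hw0 (fun χ _ => ?_) ?_ ?_ ?_ ?_ ?_ ?_
  · simp [tsum, PrincipalBlock.trivChar_apply, hw]
  · simp [PrincipalBlock.trivChar_apply]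
  · obtain ⟨d, hd0, hd⟩ := Characters.exists_degree_pos χ.2
    rw [hd, Complex.natCast_re]
    exact_mod_cast hd0
  · rw [sub_pos]; exact_mod_cast hm
  · refine div_nonneg (mul_nonneg hw0.le ?_) hp1.le
    have : ((w * (p - 1) : ℕ) : ℝ) ≤ ((e * q * (p - 2) : ℕ) : ℝ) := by exact_mod_cast hr
    push_cast [Nat.cast_sub hp.one_le, Nat.cast_sub hp.two_le] at this
    push_cast
    linarith
  · have h1 := congrArg Complex.re (sum_deg_tsum h hM)
    rw [Complex.re_sum, Complex.zero_re] at h1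
    rw [← h1, Finset.sum_filter]
    refine Finset.sum_congr rfl fun χ _ => ?_
    obtain ⟨d, -, hd⟩ := Characters.exists_degree_pos χ.2
    split_ifs <;> simp [hd]
  · have h1 := congrArg Complex.re (hU.sum_tsum_sq h hM)
    rw [Complex.re_sum, Complex.natCast_re] at h1
    rw [Finset.sum_filter]
    calc ∑ χ : IrrCharacter G, (if χ ∈ Cfsg.principalBlock M G then
          (tsum P (χ : G → ℂ)).re ^ 2 else 0) = ((q * e * w : ℕ) : ℝ) := by
          rw [← h1]
          refine Finset.sum_congr rfl fun χ _ => ?_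
          have hT : ((tsum P (χ : G → ℂ)).re : ℂ) = tsum P (χ : G → ℂ) :=
            Complex.conj_eq_iff_re.1 (tsum_inv χ)
          split_ifs
          · conv_rhs => rw [← hT, ← Complex.ofReal_pow, Complex.ofReal_re]
          · simp
      _ = _ := by push_cast; ring
  · rw [Finset.sum_filter]
    refine le_of_mul_le_mul_left (le_of_eq_of_le ?_ hcb) hp1
    rw [mul_add, mul_div_assoc', mul_div_cancel₀ _ hp1.ne']
    push_cast
    ring
  · intro χ hχ hne'
    rw [mul_div_assoc', le_div_iff₀ hp1, ← mul_assoc]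
    exact hper χ (Finset.mem_filter.1 hχ).2 hne'

end CfsgLib.PSolvablePairs
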