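import Cfsg.Agent.BlocksFrobenius.Columns

/-!
# Cyclic Sylow subgroups

A cyclic Sylow `p`-subgroup has semiregular normalizer action: an automorphism `a ↦ a ^ k` fixing
a nontrivial element has `k ≡ 1 (mod p)`, so `p`-power order, and `N(P) / C(P)` has order prime
to `p`. Its elements of order `p` are powers of each other.
-/

set_option autoImplicit false
set_option linter.style.haveILetI false
set_option linter.unusedSectionVars false

namespace CfsgLib.PSolvablePairs

open Cfsg CfsgLib.BlocksFrobenius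

universe u

theorem mem_zpowers_of_cyclic {A : Type*} [Group A] [Finite A] [IsCyclic A] {p : ℕ} (hp : 0 < p)
    {x y : A} (hx : orderOf x = p) (hy : y ^ p = 1) : y ∈ Subgroup.zpowers x := by
  classical
  haveI := Fintype.ofFinite A
  by_contra hn
  have h1 : ((Finset.univ : Finset A).filter fun z => z ^ p = 1).card ≤ p :=
    IsCyclic.card_pow_eq_one_le hp
  have h2 : insert y ((Subgroup.zpowers x : Set A).toFinset) ⊆
      (Finset.univ : Finset A).filter fun z => z ^ p = 1 := by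
    intro z hz
    refine Finset.mem_filter.2 ⟨Finset.mem_univ _, ?_⟩
    rcases Finset.mem_insert.1 hz with rfl | hz
    · exact hy
    · obtain ⟨i, rfl⟩ := Subgroup.mem_zpowers_iff.1 (Set.mem_toFinset.1 hz)
      rw [← zpow_natCast, ← zpow_mul, mul_comm, zpow_mul, zpow_natCast, ← hx, pow_orderOf_eq_one,
        one_zpow]
  have h3 := (Finset.card_le_card h2).trans h1
  rw [Finset.card_insert_of_notMem (by simpa using hn), Set.toFinset_card,
    ← Nat.card_eq_fintype_card] at h3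
  have h4 : Nat.card ↥(Subgroup.zpowers x : Set A) = p := (Nat.card_zpowers x).trans hx
  omega

theorem mem_zpowers_of_mem {G : Type*} [Group G] [Finite G] {p : ℕ} (hp : 0 < p) {A : Subgroup G}
    (hA : IsCyclic A) {x y : G} (hx : x ∈ A) (hy : y ∈ A) (hxo : orderOf x = p) (hyp : y ^ p = 1) :
    y ∈ Subgroup.zpowers x := by
  obtain ⟨i, hi⟩ := Subgroup.mem_zpowers_iff.1 (mem_zpowers_of_cyclic hp (x := (⟨x, hx⟩ : A))
    (y := (⟨y, hy⟩ : A)) (by rw [Subgroup.orderOf_mk, hxo]) (Subtype.ext hyp))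
  exact Subgroup.mem_zpowers_iff.2 ⟨i, congrArg Subtype.val hi⟩

variable {G : Type u} [Group G] [Fintype G] {p : ℕ} [Fact p.Prime] {P : Sylow p G}

theorem not_dvd_card_aut (P : Sylow p G) [IsMulCommutative (P : Subgroup G)] :
    ¬ p ∣ Nat.card (aut P) := by
  intro hd
  rw [card_aut] at hd
  refine P.not_dvd_index (hd.trans ((Subgroup.relIndex_dvd_of_le_left _
    (Subgroup.le_centralizer (P : Subgroup G))).trans ?_))
  exact ⟨_, (Subgroup.relIndex_mul_index (Subgroup.le_normalizer)).symm⟩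

theorem semireg_of_cyclic (hP : IsCyclic (P : Subgroup G)) : Semireg P := by
  have hp : p.Prime := Fact.out
  obtain ⟨a, ha⟩ := IsCyclic.exists_generator (α := (P : Subgroup G))
  have hcomm : IsMulCommutative (P : Subgroup G) := ⟨⟨fun x y => by
    obtain ⟨i, rfl⟩ := Subgroup.mem_zpowers_iff.1 (ha x)
    obtain ⟨j, rfl⟩ := Subgroup.mem_zpowers_iff.1 (ha y)
    exact Commute.zpow_zpow_self a i j⟩⟩
  refine ⟨hcomm, fun y hy hy1 => le_antisymm ?_ fun g hg => ?_⟩
  swap
  · exact ⟨Subgroup.mem_centralizer_singleton_iff.2 (Subgroup.mem_centralizer_iff.1 hg y hy).symm,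
      Subgroup.centralizer_le_normalizer _ hg⟩
  rintro g ⟨hgC, hgN⟩
  set f := Subgroup.normalizerMonoidHom (P : Subgroup G) ⟨g, hgN⟩ with hf
  have hfy : f ⟨y, hy⟩ = ⟨y, hy⟩ := Subtype.ext (by
    rw [hf, coe_aut_apply]
    exact mul_inv_eq_iff_eq_mul.2 (Subgroup.mem_centralizer_singleton_iff.1 hgC))
  obtain ⟨k, hk⟩ := Subgroup.mem_zpowers_iff.1 (ha (f a))
  obtain ⟨i, hi⟩ := Subgroup.mem_zpowers_iff.1 (ha ⟨y, hy⟩)
  have hpk : (p : ℤ) ∣ k - 1 := by
    have h1 : (⟨y, hy⟩ : (P : Subgroup G)) ^ (k - 1) = 1 := by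
      rw [zpow_sub, zpow_one]
      nth_rw 1 [← hi]
      rw [← zpow_mul, mul_comm, zpow_mul, hk, ← map_zpow, hi, hfy, mul_inv_cancel]
    have h2 : p ∣ orderOf (⟨y, hy⟩ : (P : Subgroup G)) := by
      rw [Subgroup.orderOf_mk]; exact dvd_orderOf_of_mem hy hy1
    exact (Int.natCast_dvd_natCast.2 h2).trans (orderOf_dvd_iff_zpow_eq_one.2 h1)
  have hiter : ∀ j : ℕ, (f ^ j) a = a ^ (k ^ j : ℤ) := by
    intro j
    induction j with
    | zero => simp
    | succ j ih =>
      rw [pow_succ', MulAut.mul_apply, ih, map_zpow, ← hk, ← zpow_mul, pow_succ']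
  obtain ⟨n, hn⟩ := P.2.exists_card_eq
  have hfix : f ^ (p ^ n) = 1 := by
    refine MulEquiv.ext fun w => ?_
    obtain ⟨j, rfl⟩ := Subgroup.mem_zpowers_iff.1 (ha w)
    rw [map_zpow, MulAut.one_apply, hiter]
    have h1 := dvd_sub_pow_of_dvd_sub hpk n
    rw [one_pow] at h1
    have h2 : (orderOf a : ℤ) ∣ k ^ p ^ n - 1 := by
      refine dvd_trans ?_ h1
      rw [orderOf_eq_card_of_forall_mem_zpowers ha, hn]
      push_cast
      exact pow_dvd_pow _ n.le_succ
    rw [orderOf_dvd_iff_zpow_eq_one] at h2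
    rw [show a ^ (k ^ p ^ n : ℤ) = a by
      rw [zpow_sub, zpow_one, mul_inv_eq_one] at h2; exact h2]
  have hmem : f ∈ aut P := ⟨_, rfl⟩
  have h1 : f = 1 := by
    rw [← orderOf_eq_one_iff]
    obtain ⟨m, -, hm⟩ := (Nat.dvd_prime_pow hp).1 (orderOf_dvd_of_pow_eq_one hfix)
    have h2 : orderOf f ∣ Nat.card (aut P) := by
      rw [← Subgroup.orderOf_mk f hmem]; exact orderOf_dvd_natCard _
    exact Nat.eq_one_of_dvd_coprimes (((hp.coprime_iff_not_dvd.2 (not_dvd_card_aut P))).pow_left n)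
      (orderOf_dvd_of_pow_eq_one hfix) h2
  have h3 : (⟨g, hgN⟩ : Subgroup.normalizer ((P : Subgroup G) : Set G)) ∈
      (Subgroup.normalizerMonoidHom (P : Subgroup G)).ker := h1
  rw [Subgroup.normalizerMonoidHom_ker] at h3
  exact h3

end CfsgLib.PSolvablePairs
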