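import Cfsg.Agent.PSolvablePairs.Bound
import Cfsg.Agent.PSolvablePairs.CyclicSylow
import Cfsg.Agent.GaloisConj.Basic
import Cfsg.Agent.BlocksLocal.PrincipalColumn

/-!
# Simple groups with cyclic Sylow subgroup

For a nontrivial character `χ` of the principal block let `c` be the number of eigenvalues of a
generator of `P` that are primitive `q`-th roots of unity. Then `T χ = (p - 1) χ(1) - p c`, and at
most `c` of the `φ(q)` Galois conjugates of `χ` coincide, so `T² < p c e`; this gives the bound on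
each character that contradicts the pair count.
-/

set_option autoImplicit false
set_option linter.style.haveILetI false
set_option linter.unusedSectionVars false

namespace CfsgLib.PSolvablePairs

open Cfsg CfsgLib.Blocks CfsgLib.BlocksFrobenius CfsgLib.PrincipalBlock
open scoped ComplexConjugate

universe u

/-- The arithmetic: a large `T` contradicts `T² < p c e`. -/
theorem cyclic_arith {p d c e T E : ℤ} (hp : 3 ≤ p) (hp5 : p = 3 ∨ 5 ≤ p) (hd : 0 ≤ d)
    (hc : 1 ≤ c) (he : e ≤ p - 1) (hE : 2 * p ≤ E) (hT : T = (p - 1) * d - p * c)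
    (hsq : T ^ 2 < p * c * e) :
    T * (E - (p - 1)) ≤ d * (E * (p - 2) - (p - 1) ^ 2) := by
  by_contra hcon
  push Not at hcon
  rcases hp5 with rfl | hp5
  · have h1 : d < 2 * T := by
      by_contra h1
      push Not at h1
      nlinarith [mul_le_mul_of_nonneg_right h1 (show (0 : ℤ) ≤ E - 2 by omega),
        mul_le_mul_of_nonneg_left hE hd]
    have h2 : c + 2 ≤ T := by omega
    have h3 : T ^ 2 < 6 * c := by nlinarith
    nlinarith [mul_le_mul h2 h2 (by omega) (by omega), sq_nonneg (c - 1)]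
  · have h1 : (p - 3) * d < T := by
      by_contra h1
      push Not at h1
      nlinarith [mul_le_mul_of_nonneg_right h1 (show (0 : ℤ) ≤ E - (p - 1) by omega),
        mul_le_mul_of_nonneg_left hE hd]
    have h2 : p * c < 2 * d := by nlinarith
    have h3 : (p - 3) * (p * c) < 2 * T := by nlinarith
    have h4 : T ^ 2 < p * c * (p - 1) :=
      hsq.trans_le (mul_le_mul_of_nonneg_left he (by positivity))
    have h5 : ((p - 3) * (p * c)) ^ 2 < 4 * (p * c * (p - 1)) := by
      have h0 : 0 ≤ (p - 3) * (p * c) := by positivity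
      nlinarith [mul_lt_mul'' h3 h3 h0 h0]
    have h6 : (p - 3) ^ 2 * (p * c) < 4 * (p - 1) := by
      refine lt_of_mul_lt_mul_right ?_ (show (0 : ℤ) ≤ p * c by positivity)
      linarith
    nlinarith [mul_le_mul (show (4 : ℤ) ≤ (p - 3) ^ 2 by nlinarith)
      (show p * 1 ≤ p * c by nlinarith) (by omega) (sq_nonneg _)]

variable {G : Type u} [Group G] [Fintype G] {p : ℕ} [Fact p.Prime] {P : Sylow p G}

theorem exists_eig (χ : IrrCharacter G) (a : G) :
    ∃ (d : ℕ) (μ : Fin d → ℂ), (∀ i, μ i ^ orderOf a = 1) ∧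
      ∀ j : ℕ, (χ : G → ℂ) (a ^ j) = ∑ i, μ i ^ j := by
  obtain ⟨n, ρ, -, hρ⟩ := χ.2
  obtain ⟨μ, h1, h2, -⟩ := Characters.exists_eigenvalues ρ a
  exact ⟨_, μ, h1, fun j => by rw [← hρ]; exact h2 j⟩

open Classical in
theorem sum_geom {q : ℕ} {z : ℂ} (hz : z ^ q = 1) :
    ∑ j ∈ Finset.range q, z ^ j = if z = 1 then (q : ℂ) else 0 := by
  split_ifs with h
  · simp [h]
  · rw [geom_sum_eq h, hz, sub_self, zero_div]

open Classical in
/-- The multiplicity of `ζ` among the `μ i ^ k` from the power sums. -/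
theorem sum_power_orth {d q : ℕ} (μ : Fin d → ℂ) (hμ : ∀ i, μ i ^ q = 1) (k : ℕ) {ζ : ℂ}
    (hζ : ζ ^ q = 1) :
    ∑ j ∈ Finset.range q, (∑ i, μ i ^ (j * k)) * ζ⁻¹ ^ j =
      (q : ℂ) * ((Finset.univ : Finset (Fin d)).filter fun i => μ i ^ k = ζ).card := by
  rcases Nat.eq_zero_or_pos q with rfl | hq
  · simp
  have hζ0 : ζ ≠ 0 := fun e => by
    rw [e, zero_pow hq.ne'] at hζ; exact zero_ne_one hζ
  simp only [Finset.sum_mul]
  rw [Finset.sum_comm, Finset.sum_congr rfl (g := fun i => if μ i ^ k = ζ then (q : ℂ) else 0)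
    fun i _ => ?_, ← Finset.sum_filter, Finset.sum_const, nsmul_eq_mul, mul_comm]
  rw [Finset.sum_congr rfl (g := fun j => (μ i ^ k * ζ⁻¹) ^ j) fun j _ => by
      rw [mul_pow, ← pow_mul, mul_comm j k],
    sum_geom (by rw [mul_pow, ← pow_mul, Nat.mul_comm, pow_mul, hμ, one_pow, inv_pow, hζ, inv_one,
      mul_one])]
  exact if_congr (mul_inv_eq_one₀ hζ0) rfl rfl

theorem eq_of_normalizer_le [IsSimpleGroup G] (hG : ¬ IsMulCommutative G)
    (hP : IsMulCommutative (P : Subgroup G)) (hne : (P : Subgroup G) ≠ ⊥)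
    (h : Subgroup.normalizer ((P : Subgroup G) : Set G) ≤
      Subgroup.centralizer ((P : Subgroup G) : Set G)) : False := by
  have hc := MonoidHom.ker_transferSylow_isComplement' P h
  rcases (MonoidHom.transferSylow P h).normal_ker.eq_bot_or_eq_top with hk | hk
  · rw [hk, Subgroup.isComplement'_bot_left] at hc
    exact hG ⟨⟨fun a b => congrArg Subtype.val
      (hP.is_comm.comm (⟨a, hc ▸ Subgroup.mem_top a⟩ : (P : Subgroup G))
        ⟨b, hc ▸ Subgroup.mem_top b⟩)⟩⟩
  · rw [hk, Subgroup.isComplement'_top_left] at hc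
    exact hne hc

open Classical in
/-- A nonabelian simple group with cyclic Sylow `p`-subgroup, `p` odd, has two elements of order `p`
generating a subgroup that is not `p`-solvable. -/
theorem false_of_cyclic [IsSimpleGroup G] (hG : ¬ IsMulCommutative G) (hp3 : 3 ≤ p)
    (hP : IsCyclic (P : Subgroup G)) (hne : (P : Subgroup G) ≠ ⊥)
    (hpair : ∀ x y : G, orderOf x = p → orderOf y = p →
      Cfsg.IsPSolvable p ↥(Subgroup.closure ({x, y} : Set G))) : False := by
  have hp : p.Prime := Fact.out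
  have hsemi := semireg_of_cyclic hP
  haveI := hsemi.comm
  have hH := pairHyp P (fun a ha b hb => congrArg Subtype.val
    (hsemi.comm.is_comm.comm (⟨a, ha⟩ : (P : Subgroup G)) ⟨b, hb⟩)) hpair
  -- the order of `P`, a generator
  obtain ⟨n', hn'⟩ := P.2.exists_card_eq
  obtain ⟨n, rfl⟩ : ∃ n, n' = n + 1 := ⟨n' - 1, by
    rcases Nat.eq_zero_or_pos n' with rfl | hpos
    · exact absurd (Subgroup.card_eq_one.1 (by rw [hn', pow_zero])) hne
    · omega⟩
  set q := Nat.card (P : Subgroup G) with hq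
  obtain ⟨a', ha'⟩ := IsCyclic.exists_generator (α := (P : Subgroup G))
  set a : G := (a' : G) with ha
  have hao : orderOf a = q := by
    rw [ha, Subgroup.orderOf_coe, orderOf_eq_card_of_forall_mem_zpowers ha']
  set u := a ^ p ^ n with hu
  have huo : orderOf u = p := by
    rw [hu, orderOf_pow' a (pow_ne_zero n hp.ne_zero), hao, hn',
      Nat.gcd_eq_right (pow_dvd_pow p n.le_succ), pow_succ,
      Nat.mul_div_cancel_left _ (pow_pos hp.pos n)]
  have huW : u ∈ ordSet P := mem_ordSet.2 ⟨pow_mem a'.2 _, huo⟩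
  have hpw : ∀ y ∈ ordSet P, ∀ y' ∈ ordSet P, y' ∈ Subgroup.zpowers y := fun y hy y' hy' =>
    mem_zpowers_of_mem hp.pos hP (mem_ordSet.1 hy).1 (mem_ordSet.1 hy').1 (mem_ordSet.1 hy).2
      (by rw [← (mem_ordSet.1 hy').2, pow_orderOf_eq_one])
  have himg : insert 1 (ordSet P) = (Finset.range p).image (u ^ ·) := by
    ext y
    have hiff : y ∈ Subgroup.zpowers u ↔ y ∈ (Finset.range p).image (u ^ ·) := by
      rw [← huo]; exact mem_zpowers_iff_mem_range_orderOf
    rw [← hiff, Finset.mem_insert]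
    refine ⟨fun hy => hy.elim (fun e => e ▸ one_mem _) (hpw u huW y), fun hy => ?_⟩
    rcases eq_or_ne y 1 with e | e
    · exact Or.inl e
    · refine Or.inr (mem_ordSet.2 ⟨Subgroup.zpowers_le.2 (mem_ordSet.1 huW).1 hy, ?_⟩)
      obtain ⟨i, rfl⟩ := Subgroup.mem_zpowers_iff.1 hy
      refine orderOf_eq_prime ?_ e
      rw [← zpow_natCast, ← zpow_mul, mul_comm, zpow_mul, zpow_natCast, ← huo, pow_orderOf_eq_one,
        one_zpow]
  have h1S : (1 : G) ∉ ordSet P := fun h1 => ne_one_of_mem h1 rfl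
  have hinj : Set.InjOn (u ^ ·) (Finset.range p : Set ℕ) := fun i hi j hj hij =>
    pow_injOn_Iio_orderOf (by rw [huo]; simpa using hi) (by rw [huo]; simpa using hj) hij
  have hw : (ordSet P).card + 1 = p := by
    rw [← Finset.card_insert_of_notMem h1S, himg, Finset.card_image_of_injOn hinj,
      Finset.card_range]
  -- the classes of elements of order `p` of `P`
  set e := Nat.card (aut P) with he
  have hU : Uniform P e (Nat.card (Subgroup.centralizer ({u} : Set G))) := by
    refine ⟨fun y hy => ?_, fun y hy => ?_⟩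
    · haveI := Fintype.ofFinite (aut P)
      rw [he, Nat.card_eq_fintype_card, ← Finset.card_univ]
      set y' : (P : Subgroup G) := ⟨y, (mem_ordSet.1 hy).1⟩ with hy'
      symm
      refine Finset.card_bij (fun f _ => (((f : MulAut (P : Subgroup G)) y' : (P : Subgroup G)) : G))
        (fun f _ => ?_) (fun f _ g _ hfg => ?_) fun z hz => ?_
      · refine Finset.mem_filter.2 ⟨mem_ordSet.2 ⟨Subtype.prop _, ?_⟩, isConj_aut f.2 y'⟩
        rw [Subgroup.orderOf_coe, MulEquiv.orderOf_eq, hy', Subgroup.orderOf_mk]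
        exact (mem_ordSet.1 hy).2
      · by_contra hne'
        refine ne_one_of_mem hy (congrArg Subtype.val (hsemi.eq_one_of_fixed
          (mul_mem (inv_mem g.2) f.2) (fun e' => hne' (Subtype.ext (inv_mul_eq_one.1 e').symm))
          (w := y') ?_))
        rw [MulAut.mul_apply, Subtype.ext hfg, MulAut.inv_apply_self]
      · obtain ⟨hz1, hz2⟩ := Finset.mem_filter.1 hz
        obtain ⟨f, hf, hfy⟩ := hsemi.exists_aut (y := y') (y' := ⟨z, (mem_ordSet.1 hz1).1⟩) hz2
        exact ⟨⟨f, hf⟩, Finset.mem_univ _, congrArg Subtype.val hfy⟩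
    · have hle : ∀ s ∈ ordSet P, ∀ t ∈ ordSet P,
          Subgroup.centralizer ({s} : Set G) ≤ Subgroup.centralizer ({t} : Set G) := by
        intro s hs t ht g hg
        obtain ⟨i, rfl⟩ := Subgroup.mem_zpowers_iff.1 (hpw s hs t ht)
        exact Subgroup.mem_centralizer_singleton_iff.2
          ((show Commute g s from Subgroup.mem_centralizer_singleton_iff.1 hg).zpow_right i)
      rw [le_antisymm (hle y hy u huW) (hle u huW y hy)]
  have hew : e ≤ p - 1 := by
    rw [← hU.count u huW]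
    exact (Finset.card_filter_le _ _).trans (by omega)
  have he2 : 2 ≤ e := by
    by_contra hlt
    have he1 : e = 1 := by
      have : 0 < e := Nat.card_pos
      omega
    refine eq_of_normalizer_le hG hsemi.comm hne ?_
    rw [he, card_aut, Subgroup.relIndex_eq_one] at he1
    exact he1
  obtain ⟨M, hM⟩ := exists_isPModular p hp
  haveI : M.IsPrime := IsPModular.isPrime hM
  have hpq : p ≤ q := by rw [hn']; exact Nat.le_self_pow n.succ_ne_zero p
  have hEq : 2 * p ≤ e * q := Nat.mul_le_mul he2 hpq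
  refine false_of_per hH hU hsemi hM ⟨u, huW⟩ (lt_of_lt_of_le (by omega) hEq) ?_ fun χ hχ hne' => ?_
  · rw [show (ordSet P).card = p - 1 by omega, ← hq]
    refine le_trans ?_ (Nat.mul_le_mul_right (p - 2) hEq)
    obtain ⟨k, rfl⟩ : ∃ k, p = k + 3 := ⟨p - 3, by omega⟩
    rw [show k + 3 - 1 = k + 2 by omega, show k + 3 - 2 = k + 1 by omega]
    nlinarith
  -- eigenvalues at the generator
  obtain ⟨d, μ, hμ, hpow⟩ := exists_eig χ a
  rw [hao] at hμ
  have hd : (χ : G → ℂ) 1 = d := by simpa using hpow 0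
  set S := (Finset.univ : Finset (Fin d)).filter fun i => μ i ^ p ^ n ≠ 1 with hS
  set c := S.card with hc
  have hT : tsum P (χ : G → ℂ) = ((p : ℂ) - 1) * d - p * c := by
    have h1 : (χ : G → ℂ) 1 + tsum P (χ : G → ℂ) = (p : ℂ) * ((d : ℂ) - c) := by
      rw [tsum, ← Finset.sum_insert (f := fun y => (χ : G → ℂ) y) h1S, himg,
        Finset.sum_image hinj, Finset.sum_congr rfl fun j _ => by rw [hu, ← pow_mul, hpow],
        Finset.sum_comm, Finset.sum_congr rfl (g := fun i => if μ i ^ p ^ n = 1 then (p : ℂ) else 0)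
          fun i _ => ?_]
      · rw [← Finset.sum_filter, Finset.sum_const, nsmul_eq_mul, mul_comm]
        congr 1
        have h2 := Finset.card_filter_add_card_filter_not (s := (Finset.univ : Finset (Fin d)))
          (fun i => μ i ^ p ^ n = 1)
        rw [Finset.card_univ, Fintype.card_fin] at h2
        rw [eq_sub_iff_add_eq, hc, hS]
        exact_mod_cast h2
      · rw [Finset.sum_congr rfl fun j _ => pow_mul (μ i) (p ^ n) j]
        exact sum_geom (by rw [← pow_mul, ← pow_succ, ← hn', hμ])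
    rw [hd] at h1
    linear_combination h1
  have hc1 : 1 ≤ c := by
    by_contra h0
    have hker : u ∈ charKer χ := by
      rw [mem_charKer, hd, hu, hpow, Finset.sum_congr rfl (g := fun _ => (1 : ℂ)) fun i _ => ?_]
      · simp
      · by_contra hi
        have : i ∈ S := Finset.mem_filter.2 ⟨Finset.mem_univ _, hi⟩
        have := Finset.card_pos.2 ⟨i, this⟩
        omega
    refine hne' (eq_trivChar_of_charKer_eq_top
      (((charKer_normal χ).eq_bot_or_eq_top).resolve_left fun hb => ne_one_of_mem huW ?_))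
    rwa [hb, Subgroup.mem_bot] at hker
  have hprim : ∀ i ∈ S, orderOf (μ i) = q := by
    intro i hi
    rw [hn']
    exact orderOf_eq_prime_pow (Finset.mem_filter.1 hi).2 (by rw [← hn']; exact hμ i)
  -- the Galois conjugates
  set N := Nat.card G with hN
  haveI : NeZero N := ⟨Nat.card_pos.ne'⟩
  haveI : NeZero q := ⟨Nat.card_pos.ne'⟩
  have hqN : q ∣ N := Subgroup.card_subgroup_dvd_card _
  choose lift hlift using ZMod.unitsMap_surjective (m := N) hqN
  set k : (ZMod q)ˣ → ℕ := fun r => ((lift r : (ZMod N)ˣ) : ZMod N).val with hk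
  have hkc : ∀ r, (k r).Coprime N := fun r => ZMod.val_coe_unit_coprime _
  have hkr : ∀ r, (k r : ZMod q) = r := fun r => by
    rw [hk, ZMod.natCast_val, ← ZMod.castHom_apply (h := hqN)]
    exact congrArg Units.val (hlift r)
  set F : (ZMod q)ˣ → IrrCharacter G :=
    fun r => ⟨fun g => (χ : G → ℂ) (g ^ k r), GaloisConj.isIrrCharacter_pow χ.2 (hkc r)⟩ with hF
  have hFB : ∀ r, F r ∈ Cfsg.principalBlock M G := fun r =>
    PrincipalColumn.pow_mem_principalBlock hM (hkc r) (fun g => rfl) hχ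
  have hFT : ∀ r, tsum P ((F r : IrrCharacter G) : G → ℂ) = tsum P (χ : G → ℂ) := by
    intro r
    show ∑ y ∈ ordSet P, (χ : G → ℂ) (y ^ k r) = ∑ y ∈ ordSet P, (χ : G → ℂ) y
    have hcop : ∀ y : G, (Nat.card (Subgroup.zpowers y)).Coprime (k r) := fun y => by
      rw [Nat.card_zpowers]
      exact ((hkc r).symm).coprime_dvd_left (orderOf_dvd_natCard y)
    have hin : Set.InjOn (fun y : G => y ^ k r) (ordSet P : Set G) := fun y _ z _ hyz =>
      (powCoprime (G := G) (hkc r).symm).injective hyz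
    have himg' : (ordSet P).image (fun y => y ^ k r) = ordSet P := by
      refine Finset.eq_of_subset_of_card_le (fun z hz => ?_) (Finset.card_image_of_injOn hin).ge
      obtain ⟨y, hy, rfl⟩ := Finset.mem_image.1 hz
      refine mem_ordSet.2 ⟨pow_mem (mem_ordSet.1 hy).1 _, ?_⟩
      rw [Nat.Coprime.orderOf_pow ((hkc r).symm.coprime_dvd_left (orderOf_dvd_natCard y)),
        (mem_ordSet.1 hy).2]
    conv_rhs => rw [← himg', Finset.sum_image hin]
  have hFne : ∀ r, F r ≠ trivChar G := fun r e => hne' (Subtype.ext (funext fun g => by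
    have h1 := congrFun (congrArg Subtype.val e) ((powCoprime (G := G) (hkc r).symm).symm g)
    simp only [hF, trivChar_apply] at h1
    rw [← powCoprime_apply (G := G) (h := (hkc r).symm), Equiv.apply_symm_apply] at h1
    rw [h1, trivChar_apply]))
  obtain ⟨i₀, hi₀⟩ := Finset.card_pos.1 (show 0 < S.card by omega)
  have hfib : ∀ b ∈ (Finset.univ : Finset (ZMod q)ˣ).image F,
      ((Finset.univ : Finset (ZMod q)ˣ).filter fun r => F r = b).card ≤ c := by
    intro b hb
    obtain ⟨r₀, -, rfl⟩ := Finset.mem_image.1 hb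
    have hmult : ∀ r, F r = F r₀ → ∃ i, μ i ^ k r₀ = μ i₀ ^ k r := by
      intro r hr
      have hζ : (μ i₀ ^ k r) ^ q = 1 := by rw [← pow_mul, mul_comm, pow_mul, hμ, one_pow]
      have h1 := sum_power_orth μ hμ (k r) hζ
      have h2 := sum_power_orth μ hμ (k r₀) hζ
      rw [Finset.sum_congr rfl fun j _ => by
        rw [← hpow, pow_mul, show (χ : G → ℂ) ((a ^ j) ^ k r) = (χ : G → ℂ) ((a ^ j) ^ k r₀) from
          congrFun (congrArg Subtype.val hr) (a ^ j), ← pow_mul, hpow], h2] at h1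
      by_contra hno
      push Not at hno
      rw [Finset.filter_false_of_mem fun i _ => hno i, Finset.card_empty, Nat.cast_zero,
        mul_zero] at h1
      rcases mul_eq_zero.1 h1.symm with h | h
      · exact NeZero.ne q (by exact_mod_cast h)
      · rw [Nat.cast_eq_zero, Finset.card_eq_zero, Finset.filter_eq_empty_iff] at h
        exact h (Finset.mem_univ i₀) rfl
    haveI : Nonempty (Fin d) := ⟨i₀⟩
    choose! i hi using hmult
    refine Finset.card_le_card_of_injOn i (fun r hr => ?_) fun r hr r' hr' he' => ?_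
    · refine Finset.mem_filter.2 ⟨Finset.mem_univ _, fun h1 => (Finset.mem_filter.1 hi₀).2 ?_⟩
      have h2 : (μ i₀ ^ p ^ n) ^ k r = 1 := by
        rw [← pow_mul, mul_comm, pow_mul, ← hi r (Finset.mem_filter.1 hr).2, ← pow_mul, mul_comm,
          pow_mul, h1, one_pow]
      rw [← orderOf_eq_one_iff]
      refine Nat.eq_one_of_dvd_coprimes (hkc r) (orderOf_dvd_of_pow_eq_one h2) ?_
      exact ((orderOf_pow_dvd _).trans (hprim i₀ hi₀).dvd).trans hqN
    · have h3 : μ i₀ ^ k r = μ i₀ ^ k r' := by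
        rw [← hi r (Finset.mem_filter.1 hr).2, ← hi r' (Finset.mem_filter.1 hr').2, he']
      have h4 : IsPrimitiveRoot (μ i₀) q := hprim i₀ hi₀ ▸ IsPrimitiveRoot.orderOf (μ i₀)
      rw [← pow_mod_orderOf _ (k r), ← pow_mod_orderOf _ (k r'), hprim i₀ hi₀] at h3
      have h5 : k r ≡ k r' [MOD q] :=
        h4.pow_inj (Nat.mod_lt _ (NeZero.pos q)) (Nat.mod_lt _ (NeZero.pos q)) h3
      rw [← ZMod.natCast_eq_natCast_iff, hkr, hkr] at h5
      exact Units.ext h5
  have hcard := Finset.card_le_mul_card_image (f := F) (Finset.univ : Finset (ZMod q)ˣ) c hfib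
  rw [Finset.card_univ, ZMod.card_units_eq_totient] at hcard
  set T : ℤ := ((p : ℤ) - 1) * d - p * c with hTdef
  have hTC : tsum P (χ : G → ℂ) = (T : ℂ) := by rw [hT, hTdef]; push_cast; ring
  have hTR : (tsum P (χ : G → ℂ)).re = (T : ℝ) := by rw [hTC, Complex.intCast_re]
  set I := (Finset.univ : Finset (ZMod q)ˣ).image F with hI
  have hsum : (I.card : ℤ) * T ^ 2 + ((p : ℤ) - 1) ^ 2 ≤ ((q * e * (p - 1) : ℕ) : ℤ) := by
    have h1 := congrArg Complex.re (hU.sum_tsum_sq hsemi hM)
    rw [Complex.re_sum, Complex.natCast_re, show (ordSet P).card = p - 1 by omega] at h1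
    have h2 : ∑ ξ ∈ insert (trivChar G) I,
        (if ξ ∈ Cfsg.principalBlock M G then tsum P (ξ : G → ℂ) ^ 2 else 0).re ≤
          ((q * e * (p - 1) : ℕ) : ℝ) := by
      rw [← h1]
      refine Finset.sum_le_sum_of_subset_of_nonneg (Finset.subset_univ _) fun ξ _ _ => ?_
      split_ifs
      · rw [← Complex.conj_eq_iff_re.1 (tsum_inv (P := P) ξ), ← Complex.ofReal_pow,
          Complex.ofReal_re]
        exact sq_nonneg _
      · simp
    rw [Finset.sum_insert fun hmem => by
        obtain ⟨r, -, hr⟩ := Finset.mem_image.1 hmem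
        exact hFne r hr,
      if_pos trivChar_mem, Finset.sum_congr rfl (g := fun _ => (T : ℝ) ^ 2) fun ξ hξ => ?_,
      Finset.sum_const, nsmul_eq_mul] at h2
    · have h3 : tsum P ((trivChar G : IrrCharacter G) : G → ℂ) = (((p : ℤ) - 1 : ℤ) : ℂ) := by
        simp only [tsum, trivChar_apply, Finset.sum_const, nsmul_eq_mul, mul_one,
          show (ordSet P).card = p - 1 by omega]
        push_cast [Nat.cast_sub hp.one_le]
        ring
      rw [h3, ← Int.cast_pow, Complex.intCast_re] at h2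
      have h4 : (((I.card : ℤ) * T ^ 2 + ((p : ℤ) - 1) ^ 2 : ℤ) : ℝ) ≤
          (((q * e * (p - 1) : ℕ) : ℤ) : ℝ) := by
        push_cast at h2 ⊢
        linarith
      exact_mod_cast h4
    · obtain ⟨r, -, rfl⟩ := Finset.mem_image.1 hξ
      rw [if_pos (hFB r), hFT, hTC, ← Int.cast_pow, Complex.intCast_re, Int.cast_pow]
  have hsq : T ^ 2 < (p : ℤ) * c * e := by
    have hφ : ((p : ℤ) ^ n) * ((p : ℤ) - 1) ≤ (c : ℤ) * I.card := by
      have h1 : Nat.totient q = p ^ n * (p - 1) := by rw [hn', Nat.totient_prime_pow_succ hp]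
      rw [h1] at hcard
      have h2 : ((p ^ n * (p - 1) : ℕ) : ℤ) ≤ ((c * I.card : ℕ) : ℤ) := by exact_mod_cast hcard
      push_cast [Nat.cast_sub hp.one_le] at h2
      exact h2
    have hq' : (q : ℤ) = (p : ℤ) ^ n * p := by rw [← pow_succ]; exact_mod_cast hn'
    push_cast [Nat.cast_sub hp.one_le] at hsum
    rw [hq'] at hsum
    have hcpos : (0 : ℤ) < c := by exact_mod_cast hc1
    have hp1 : (0 : ℤ) < (p : ℤ) - 1 := by omega
    refine lt_of_mul_lt_mul_left (a := (p : ℤ) ^ n * ((p : ℤ) - 1)) ?_ (by positivity)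
    calc (p : ℤ) ^ n * ((p : ℤ) - 1) * T ^ 2 ≤ (c : ℤ) * I.card * T ^ 2 :=
          mul_le_mul_of_nonneg_right hφ (sq_nonneg _)
      _ = (c : ℤ) * ((I.card : ℤ) * T ^ 2) := mul_assoc _ _ _
      _ < (c : ℤ) * ((p : ℤ) ^ n * p * e * ((p : ℤ) - 1)) :=
          mul_lt_mul_of_pos_left (by nlinarith [pow_pos hp1 2]) hcpos
      _ = _ := by ring
  have hkey := cyclic_arith (p := (p : ℤ)) (d := d) (c := c) (e := e) (T := T)
    (E := ((e * q : ℕ) : ℤ)) (by exact_mod_cast hp3)
    (by
      rcases (show p = 3 ∨ p = 4 ∨ 5 ≤ p by omega) with h | h | h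
      · left; exact_mod_cast h
      · exact absurd (h ▸ hp) (by norm_num)
      · right; exact_mod_cast h)
    (Int.natCast_nonneg d) (by exact_mod_cast hc1) (by omega) (by exact_mod_cast hEq) hTdef hsq
  have hkeyR : ((T : ℝ)) * (((e * q : ℕ) : ℝ) - ((p : ℝ) - 1)) ≤
      (d : ℝ) * (((e * q : ℕ) : ℝ) * ((p : ℝ) - 2) - ((p : ℝ) - 1) ^ 2) := by exact_mod_cast hkey
  have hwR : ((ordSet P).card : ℝ) = (p : ℝ) - 1 := by
    rw [eq_sub_iff_add_eq]; exact_mod_cast hw
  rw [hTR, hd, Complex.natCast_re, hwR, ← hq]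
  have hp1R : (0 : ℝ) ≤ (p : ℝ) - 1 := by
    have : (1 : ℝ) ≤ p := by exact_mod_cast hp.one_le
    linarith
  linarith [mul_le_mul_of_nonneg_right hkeyR hp1R]

end CfsgLib.PSolvablePairs
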