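import Cfsg.Agent.CharactersDeep.ClassPairs

/-!
# Pairs from a conjugation invariant set, and transport of sums along conjugation

For a set `Ω` closed under conjugation and an irreducible `χ`,
`∑_{x,y ∈ Ω} χ (x y) = (∑_{x ∈ Ω} χ x)² / χ 1`; so a class function `F` has
`∑_{x,y ∈ Ω} F (x y) = ∑_χ ⟨F, χ⟩ (∑_Ω χ)² / χ 1`.
-/

set_option autoImplicit false
set_option linter.unusedSectionVars false

namespace CfsgLib.PSolvablePairs

open Cfsg CfsgLib.Characters
open scoped ComplexConjugate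

variable {G : Type*} [Group G] [Fintype G]

theorem sum_set_scalar {V : Type*} [AddCommGroup V] [Module ℂ V] [FiniteDimensional ℂ V]
    (ρ : Representation ℂ G V) [ρ.IsIrreducible] {Ω : Finset G}
    (hΩ : ∀ h, ∀ x ∈ Ω, h * x * h⁻¹ ∈ Ω) :
    ∑ x ∈ Ω, ρ x = ((∑ x ∈ Ω, ρ.character x) / ρ.character 1) • LinearMap.id := by
  have hn : ρ.character 1 ≠ 0 := irr_one_ne_zero (isIrrCharacter_character ρ)
  obtain ⟨c, hc⟩ := schur_scalar ρ (∑ x ∈ Ω, ρ x) fun h v => by
    simp only [LinearMap.sum_apply, map_sum, ← Module.End.mul_apply, ← map_mul]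
    refine Finset.sum_bij (fun g _ => h⁻¹ * g * h) ?_ ?_ ?_ ?_
    · intro g hg
      simpa using hΩ h⁻¹ g hg
    · intro g _ g' _ hgg
      simpa using hgg
    · intro g hg
      exact ⟨h * g * h⁻¹, hΩ h g hg, by group⟩
    · intro g _
      congr 2
      group
  have ht := congrArg (LinearMap.trace ℂ V) hc
  rw [map_sum, trace_smul_id, ← Representation.char_one ρ] at ht
  rw [hc]
  congr 1
  rw [show (∑ x ∈ Ω, ρ.character x) = _ from ht, mul_div_cancel_right₀ _ hn]

/-- The sum of an irreducible character over the products of two elements of an invariant set. -/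
theorem sum_set_pairs {χ : G → ℂ} (hχ : Cfsg.IsIrrCharacter G χ) {Ω : Finset G}
    (hΩ : ∀ h, ∀ x ∈ Ω, h * x * h⁻¹ ∈ Ω) :
    ∑ p ∈ Ω ×ˢ Ω, χ (p.1 * p.2) = (∑ x ∈ Ω, χ x) ^ 2 / χ 1 := by
  obtain ⟨n, ρ, hρ, rfl⟩ := hχ
  have h1 : (∑ x ∈ Ω, ρ x) * (∑ y ∈ Ω, ρ y) = ∑ p ∈ Ω ×ˢ Ω, ρ (p.1 * p.2) := by
    rw [Finset.sum_mul_sum, Finset.sum_product]
    simp only [map_mul]
  rw [sum_set_scalar ρ hΩ, smul_mul_smul_comm,
    show (LinearMap.id : (Fin n → ℂ) →ₗ[ℂ] _) * LinearMap.id = LinearMap.id from rfl] at h1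
  have h2 := congrArg (LinearMap.trace ℂ _) h1
  rw [trace_smul_id, map_sum, ← Representation.char_one ρ] at h2
  refine Eq.trans h2.symm ?_
  have hn : ρ.character 1 ≠ 0 := irr_one_ne_zero ⟨n, ρ, hρ, rfl⟩
  field_simp

/-- The sum of a class function over the products of two elements of an invariant set. -/
theorem sum_set_pairs_class {F : G → ℂ} (hF : Cfsg.IsClassFunction G F) {Ω : Finset G}
    (hΩ : ∀ h, ∀ x ∈ Ω, h * x * h⁻¹ ∈ Ω) :
    ∑ p ∈ Ω ×ˢ Ω, F (p.1 * p.2) = ∑ χ : IrrCharacter G,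
      Cfsg.classInner F (χ : G → ℂ) * ((∑ x ∈ Ω, (χ : G → ℂ) x) ^ 2 / (χ : G → ℂ) 1) := by
  conv_lhs => rw [classFunction_expansion hF]
  simp only [Finset.sum_apply, Pi.smul_apply, smul_eq_mul]
  rw [Finset.sum_comm]
  refine Finset.sum_congr rfl fun χ _ => ?_
  rw [← Finset.mul_sum, sum_set_pairs χ.2 hΩ]

open Classical in
/-- A class function summed over an invariant set, through a multiset of representatives. -/
theorem sum_conj_transport {ι : Type*} (I : Finset ι) (val : ι → G) (S : Finset G) {F : G → ℂ}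
    (hF : Cfsg.IsClassFunction G F) (hval : ∀ t, ∀ i ∈ I, t * val i * t⁻¹ ∈ S) {N : ℕ}
    (hN : ∀ g ∈ S, ((Finset.univ ×ˢ I).filter fun z : G × ι =>
      z.1 * val z.2 * z.1⁻¹ = g).card = N) :
    (N : ℂ) * ∑ g ∈ S, F g = (Nat.card G : ℂ) * ∑ i ∈ I, F (val i) := by
  have h1 : ∑ z ∈ (Finset.univ : Finset G) ×ˢ I, F (z.1 * val z.2 * z.1⁻¹) =
      (Nat.card G : ℂ) * ∑ i ∈ I, F (val i) := by
    rw [Finset.sum_product, Finset.sum_congr rfl (g := fun _ => ∑ i ∈ I, F (val i))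
      fun t _ => Finset.sum_congr rfl fun i _ => hF (val i) t, Finset.sum_const, Finset.card_univ,
      Fintype.card_eq_nat_card, nsmul_eq_mul]
  rw [← h1, ← Finset.sum_fiberwise_of_maps_to (t := S)
    (g := fun z : G × ι => z.1 * val z.2 * z.1⁻¹) (fun z hz => hval _ _ (Finset.mem_product.1 hz).2),
    Finset.mul_sum]
  refine Finset.sum_congr rfl fun g hg => ?_
  rw [Finset.sum_congr rfl (g := fun _ => F g) (fun z hz => by rw [(Finset.mem_filter.1 hz).2]),
    Finset.sum_const, hN g hg, nsmul_eq_mul]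

open Classical in
/-- The elements conjugating `y` to `g`. -/
theorem card_transporter {y g : G} (h : IsConj y g) :
    ((Finset.univ : Finset G).filter fun t => t * y * t⁻¹ = g).card =
      Nat.card (Subgroup.centralizer ({y} : Set G)) := by
  have h1 := sum_irr_mul_conj y g
  rw [sum_irr_mul_conj_of_isConj h] at h1
  have h2 : Nat.card {t : G // t * y * t⁻¹ = g} =
      Nat.card (Subgroup.centralizer ({y} : Set G)) := by exact_mod_cast h1.symm
  rw [← h2, Nat.card_eq_fintype_card, Fintype.card_subtype]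

end CfsgLib.PSolvablePairs
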