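import Cfsg.Agent.PSolvablePairs.InvariantSet
import Cfsg.Agent.BlocksFrobenius.Coeff

/-!
# The elements of order `p` and their sections, seen by the principal block

`P` is an abelian Sylow subgroup with semiregular normalizer action, the elements of order `p` in
`P` fall into `G`-classes meeting `P` in `e` elements each and have centralizers of order `c`. With
`T χ = ∑ χ y` over those elements: `e c ∑_Ω χ = |G| T χ` over all elements `Ω` of order `p`, and
over the elements `S` with `p`-part of order `p` the sum `e q ∑_S χ` is `|G| T χ` on the principal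
block and `0` elsewhere.
-/

set_option autoImplicit false
set_option linter.style.haveILetI false
set_option linter.unusedSectionVars false

namespace CfsgLib.PSolvablePairs

open Cfsg CfsgLib.Blocks CfsgLib.BlocksFrobenius
open scoped ComplexConjugate

universe u

variable {G : Type u} [Group G] [Fintype G] {p : ℕ} [Fact p.Prime]

open Classical in
/-- The elements of order `p` of `P`. -/
noncomputable def ordSet (P : Sylow p G) : Finset G :=
  Finset.univ.filter fun y => y ∈ (P : Subgroup G) ∧ orderOf y = p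

open Classical in
/-- The elements of order `p`. -/
noncomputable def ordAll (G : Type u) [Group G] [Fintype G] (p : ℕ) : Finset G :=
  Finset.univ.filter fun y => orderOf y = p

open Classical in
/-- The elements whose `p`-part has order `p`. -/
noncomputable def secAll (G : Type u) [Group G] [Fintype G] (p : ℕ) : Finset G :=
  Finset.univ.filter fun g => ∃ z : G, Cfsg.IsPPart p g z ∧ orderOf z = p

/-- The sum of `χ` over the elements of order `p` of `P`. -/
noncomputable def tsum (P : Sylow p G) (χ : G → ℂ) : ℂ := ∑ y ∈ ordSet P, χ y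

theorem mem_ordSet {P : Sylow p G} {y : G} :
    y ∈ ordSet P ↔ y ∈ (P : Subgroup G) ∧ orderOf y = p := by simp [ordSet]

theorem mem_ordAll {y : G} : y ∈ ordAll G p ↔ orderOf y = p := by simp [ordAll]

theorem mem_secAll {g : G} : g ∈ secAll G p ↔ ∃ z : G, Cfsg.IsPPart p g z ∧ orderOf z = p := by
  simp [secAll]

theorem ne_one_of_mem {P : Sylow p G} {y : G} (hy : y ∈ ordSet P) : y ≠ 1 := fun e =>
  (Fact.out : p.Prime).one_lt.ne ((orderOf_one (G := G)).symm.trans (e ▸ (mem_ordSet.1 hy).2))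

theorem orderOf_conj (t y : G) : orderOf (t * y * t⁻¹) = orderOf y :=
  (MulAut.conj t).orderOf_eq y

theorem ordAll_conj : ∀ h, ∀ x ∈ ordAll G p, h * x * h⁻¹ ∈ ordAll G p := fun h x hx => by
  rw [mem_ordAll, orderOf_conj]; exact mem_ordAll.1 hx

open Classical in
/-- The classes of elements of order `p` meet `P` in `e` elements, the centralizers have order `c`. -/
structure Uniform (P : Sylow p G) (e c : ℕ) : Prop where
  count : ∀ y ∈ ordSet P, ((ordSet P).filter fun y' => IsConj y y').card = e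
  cent : ∀ y ∈ ordSet P, Nat.card (Subgroup.centralizer ({y} : Set G)) = c

variable {P : Sylow p G} {e c : ℕ}

theorem exists_conj_mem (P : Sylow p G) {z : G} (hz : orderOf z = p) :
    ∃ y ∈ ordSet P, IsConj y z := by
  have hzp : IsPGroup p (Subgroup.zpowers z) :=
    IsPGroup.of_card (n := 1) (by rw [Nat.card_zpowers, hz, pow_one])
  obtain ⟨Q, hQ⟩ := hzp.exists_le_sylow
  obtain ⟨g, hg⟩ := MulAction.exists_smul_eq G Q P
  have hmem : g * z * g⁻¹ ∈ (P : Subgroup G) := by
    rw [← hg]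
    exact ⟨z, hQ (Subgroup.mem_zpowers z), rfl⟩
  exact ⟨g * z * g⁻¹, mem_ordSet.2 ⟨hmem, by rw [orderOf_conj, hz]⟩,
    (isConj_iff.2 ⟨g, rfl⟩).symm⟩

open Classical in
theorem Uniform.card_pairs (hU : Uniform P e c) {z : G} (hz : orderOf z = p) :
    (((Finset.univ : Finset G) ×ˢ ordSet P).filter fun w : G × G =>
      w.1 * w.2 * w.1⁻¹ = z).card = e * c := by
  obtain ⟨y₀, hy₀, hc⟩ := exists_conj_mem P hz
  rw [Finset.card_filter, Finset.sum_product_right]
  rw [Finset.sum_congr rfl (g := fun y => if IsConj y₀ y then c else 0) fun y hy => ?_,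
    ← Finset.sum_filter, Finset.sum_const, hU.count y₀ hy₀, smul_eq_mul]
  rw [← Finset.card_filter]
  split_ifs with h
  · rw [card_transporter (h.symm.trans hc), hU.cent y hy]
  · rw [Finset.card_eq_zero, Finset.filter_eq_empty_iff]
    exact fun t _ ht => h (hc.trans (isConj_iff.2 ⟨t, ht⟩).symm)

/-- The sum over all elements of order `p`. -/
theorem Uniform.sum_ordAll (hU : Uniform P e c) {F : G → ℂ} (hF : Cfsg.IsClassFunction G F) :
    ((e * c : ℕ) : ℂ) * ∑ g ∈ ordAll G p, F g = (Nat.card G : ℂ) * tsum P F :=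
  sum_conj_transport (ordSet P) id (ordAll G p) hF
    (fun t y hy => mem_ordAll.2 (by rw [id, orderOf_conj]; exact (mem_ordSet.1 hy).2))
    fun g hg => by
      classical
      convert hU.card_pairs (mem_ordAll.1 hg) using 4
      all_goals simp

open Classical in
/-- The sum of a character over the `p`-regular part of the centralizer of `y`, shifted by `y`. -/
theorem sum_section (h : Semireg P) {M : Ideal AlgInt} [M.IsPrime] (hM : Cfsg.IsPModular p M)
    (χ : IrrCharacter G) {y : G} (hy : y ∈ (P : Subgroup G)) (hy1 : y ≠ 1) :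
    (Nat.card (P : Subgroup G) : ℂ) *
        ∑ u ∈ (Finset.univ : Finset G).filter (fun u => Commute y u ∧ ¬ p ∣ orderOf u),
          (χ : G → ℂ) (y * u) =
      (Nat.card (Subgroup.centralizer ({y} : Set G)) : ℂ) *
        if χ ∈ Cfsg.principalBlock M G then (χ : G → ℂ) y else 0 := by
  set C := Subgroup.centralizer ({y} : Set G)
  haveI := Fintype.ofFinite C
  obtain ⟨K, hKn, hK, hKi⟩ := h.exists_complement hy hy1
  obtain ⟨n, hn⟩ := P.2.exists_card_eq
  have hreg : ∀ k : C, k ∈ K → ¬ p ∣ orderOf (k : G) := fun k hk hd =>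
    hK (hd.trans (by
      rw [Subgroup.orderOf_coe, ← Subgroup.orderOf_mk k hk]
      exact orderOf_dvd_natCard _))
  have hval := BlocksLocal.blockPart_principal_translate hM (isPow_of_mem hy) χ (y := (1 : C))
    (by rw [orderOf_one]; exact (Fact.out : p.Prime).not_dvd_one)
  rw [blockPart_eq_sum _ (isClassFunction_translate (χ : G → ℂ)
    (Characters.isClassFunction_of_isIrr χ.2) y)] at hval
  simp only [mul_one, OneMemClass.coe_one] at hval
  rw [← hval, Finset.mul_sum, Finset.mul_sum]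
  rw [Finset.sum_congr rfl (s₁ := (Finset.univ : Finset C))
    (g := fun k : C => if k ∈ K then
      (Nat.card (P : Subgroup G) : ℂ) * (χ : G → ℂ) (y * (k : G)) else 0) fun k _ => ?_,
    ← Finset.sum_filter]
  · symm
    refine Finset.sum_bij' (fun (k : C) _ => (k : G))
      (fun u hu => (⟨u, Subgroup.mem_centralizer_singleton_iff.2
        ((Finset.mem_filter.1 hu).2.1.eq.symm)⟩ : C))
      (fun k hk => ?_) (fun u hu => ?_) (fun _ _ => rfl) (fun _ _ => rfl) (fun _ _ => rfl)
    · exact Finset.mem_filter.2 ⟨Finset.mem_univ _,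
        (Subgroup.mem_centralizer_singleton_iff.1 k.2).symm, hreg k (Finset.mem_filter.1 hk).2⟩
    · refine Finset.mem_filter.2 ⟨Finset.mem_univ _, mem_of_regular K (hKi.trans hn) ?_⟩
      rw [← Subgroup.orderOf_coe]
      exact (Finset.mem_filter.1 hu).2.2
  · have hc := BlocksLocal.blockCoeff_principal_of_normal_complement hM K hK ⟨n, hKi.trans hn⟩ k
    rw [← mul_assoc, hc, hKi, Set.indicator_apply]
    simp only [SetLike.mem_coe]
    split_ifs <;> simp

open Classical in
/-- The sum over the elements with `p`-part of order `p`. -/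
theorem Uniform.sum_secAll (hU : Uniform P e c) (h : Semireg P) {M : Ideal AlgInt} [M.IsPrime]
    (hM : Cfsg.IsPModular p M) (χ : IrrCharacter G) :
    ((e * Nat.card (P : Subgroup G) : ℕ) : ℂ) * ∑ g ∈ secAll G p, (χ : G → ℂ) g =
      (Nat.card G : ℂ) *
        if χ ∈ Cfsg.principalBlock M G then tsum P (χ : G → ℂ) else 0 := by
  have hp : p.Prime := Fact.out
  obtain ⟨y₀, hy₀⟩ | hne := (ordSet P).eq_empty_or_nonempty.symm
  swap
  · have hS : secAll G p = ∅ := by
      refine Finset.eq_empty_of_forall_notMem fun g hg => ?_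
      obtain ⟨z, -, hz⟩ := mem_secAll.1 hg
      obtain ⟨y, hy, -⟩ := exists_conj_mem P hz
      rw [hne] at hy
      exact Finset.notMem_empty _ hy
    rw [hS, Finset.sum_empty, mul_zero, tsum, hne, Finset.sum_empty, ite_self, mul_zero]
  have hc0 : (c : ℂ) ≠ 0 := by
    rw [← hU.cent y₀ hy₀]; exact Nat.cast_ne_zero.2 Nat.card_pos.ne'
  set I : Finset (G × G) := (ordSet P ×ˢ (Finset.univ : Finset G)).filter fun w =>
    Commute w.1 w.2 ∧ ¬ p ∣ orderOf w.2 with hI
  have hmem : ∀ w ∈ I, w.1 ∈ ordSet P ∧ Commute w.1 w.2 ∧ ¬ p ∣ orderOf w.2 := fun w hw =>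
    ⟨(Finset.mem_product.1 (Finset.mem_filter.1 hw).1).1, (Finset.mem_filter.1 hw).2⟩
  have hpart : ∀ t, ∀ w ∈ I, Cfsg.IsPPart p (t * (w.1 * w.2) * t⁻¹) (t * w.1 * t⁻¹) := by
    intro t w hw
    obtain ⟨h1, h2, h3⟩ := hmem w hw
    exact isPPart_conj (isPPart_of_mul h2 ⟨1, by rw [(mem_ordSet.1 h1).2, pow_one]⟩ h3) t
  have key := sum_conj_transport I (fun w : G × G => w.1 * w.2) (secAll G p)
    (Characters.isClassFunction_of_isIrr χ.2) (fun t w hw => mem_secAll.2 ⟨_, hpart t w hw, by
      rw [orderOf_conj]; exact (mem_ordSet.1 (hmem w hw).1).2⟩) (N := e * c) fun g hg => ?_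
  · have hR : (Nat.card (P : Subgroup G) : ℂ) * ∑ w ∈ I, (χ : G → ℂ) (w.1 * w.2) =
        (c : ℂ) * if χ ∈ Cfsg.principalBlock M G then tsum P (χ : G → ℂ) else 0 := by
      rw [hI, Finset.sum_filter, Finset.sum_product, Finset.mul_sum,
        Finset.sum_congr rfl fun y hy => by
          rw [← Finset.sum_filter, sum_section h hM χ (mem_ordSet.1 hy).1 (ne_one_of_mem hy),
            hU.cent y hy],
        ← Finset.mul_sum]
      congr 1
      split_ifs
      · rfl
      · exact Finset.sum_const_zero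
    refine mul_left_cancel₀ hc0 ?_
    push_cast at key hR ⊢
    linear_combination (Nat.card (P : Subgroup G) : ℂ) * key + (Nat.card G : ℂ) * hR
  obtain ⟨z, hz, hzo⟩ := mem_secAll.1 hg
  rw [← hU.card_pairs hzo]
  refine Finset.card_bij' (fun w _ => (w.1, w.2.1))
    (fun w _ => (w.1, (w.2, w.2⁻¹ * (w.1⁻¹ * g * w.1)))) (fun w hw => ?_) (fun w hw => ?_)
    (fun w hw => ?_) (fun w _ => rfl)
  · obtain ⟨hw1, hw2⟩ := Finset.mem_filter.1 hw
    have hwI := (Finset.mem_product.1 hw1).2
    refine Finset.mem_filter.2 ⟨Finset.mem_product.2 ⟨Finset.mem_univ _, (hmem _ hwI).1⟩, ?_⟩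
    have h1 := hpart w.1 _ hwI
    rw [hw2] at h1
    exact isPPart_unique hp h1 hz
  · obtain ⟨hw1, hw2⟩ := Finset.mem_filter.1 hw
    obtain ⟨u, hu, hc, -, hu'⟩ := hz
    have hrew : w.2⁻¹ * (w.1⁻¹ * g * w.1) = w.1⁻¹ * u * w.1 := by
      rw [← hu, ← hw2]; group
    refine Finset.mem_filter.2 ⟨Finset.mem_product.2 ⟨Finset.mem_univ _, Finset.mem_filter.2
      ⟨Finset.mem_product.2 ⟨(Finset.mem_product.1 hw1).2, Finset.mem_univ _⟩, ?_, ?_⟩⟩, by group⟩
    · show Commute w.2 (w.2⁻¹ * (w.1⁻¹ * g * w.1))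
      rw [hrew]
      have h2 : w.2 = w.1⁻¹ * z * w.1 := by rw [← hw2]; group
      rw [h2]
      have := hc.map (MulAut.conj w.1⁻¹).toMonoidHom
      simpa using this
    · show ¬ p ∣ orderOf (w.2⁻¹ * (w.1⁻¹ * g * w.1))
      rw [hrew]
      have := orderOf_conj w.1⁻¹ u
      rw [inv_inv] at this
      rwa [this]
  · obtain ⟨hw1, hw2⟩ := Finset.mem_filter.1 hw
    refine Prod.ext rfl (Prod.ext rfl ?_)
    show w.2.1⁻¹ * (w.1⁻¹ * g * w.1) = w.2.2
    rw [← hw2]; group

theorem tsum_inv (χ : IrrCharacter G) : conj (tsum P (χ : G → ℂ)) = tsum P (χ : G → ℂ) := by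
  rw [tsum, map_sum]
  refine Finset.sum_nbij' (fun y => y⁻¹) (fun y => y⁻¹) ?_ ?_ (fun y _ => inv_inv y)
    (fun y _ => inv_inv y) fun y _ => ?_
  · intro y hy
    obtain ⟨h1, h2⟩ := mem_ordSet.1 hy
    exact mem_ordSet.2 ⟨inv_mem h1, by rw [orderOf_inv, h2]⟩
  · intro y hy
    obtain ⟨h1, h2⟩ := mem_ordSet.1 hy
    exact mem_ordSet.2 ⟨inv_mem h1, by rw [orderOf_inv, h2]⟩
  · rw [Characters.character_inv (Characters.isCharacter_of_isIrr χ.2)]

open Classical in
/-- `∑ T²` over the principal block. -/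
theorem Uniform.sum_tsum_sq (hU : Uniform P e c) (h : Semireg P) {M : Ideal AlgInt} [M.IsPrime]
    (hM : Cfsg.IsPModular p M) :
    ∑ χ : IrrCharacter G, (if χ ∈ Cfsg.principalBlock M G then tsum P (χ : G → ℂ) ^ 2 else 0) =
      ((Nat.card (P : Subgroup G) * e * (ordSet P).card : ℕ) : ℂ) := by
  have h1 : ∀ χ : IrrCharacter G,
      (if χ ∈ Cfsg.principalBlock M G then tsum P (χ : G → ℂ) ^ 2 else 0) =
      ∑ y ∈ ordSet P, ∑ y' ∈ ordSet P, if χ ∈ Cfsg.principalBlock M G then
        (χ : G → ℂ) y * conj ((χ : G → ℂ) y') else 0 := fun χ => by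
    split_ifs
    · rw [← Finset.sum_mul_sum, ← map_sum, ← tsum, tsum_inv, sq]
    · simp
  rw [Finset.sum_congr rfl fun χ _ => h1 χ, Finset.sum_comm]
  rw [Finset.sum_congr rfl (g := fun _ => ((Nat.card (P : Subgroup G) * e : ℕ) : ℂ)) fun y hy => ?_,
    Finset.sum_const, nsmul_eq_mul]
  · push_cast; ring
  rw [Finset.sum_comm, Finset.sum_congr rfl fun y' hy' =>
    h.sum_column hM (mem_ordSet.1 hy).1 (ne_one_of_mem hy) (mem_ordSet.1 hy').1,
    ← Finset.sum_filter, Finset.sum_const, hU.count y hy, nsmul_eq_mul]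
  push_cast; ring

open Classical in
/-- `∑ χ(1) T = 0` over the principal block. -/
theorem sum_deg_tsum (h : Semireg P) {M : Ideal AlgInt} [M.IsPrime] (hM : Cfsg.IsPModular p M) :
    ∑ χ : IrrCharacter G, (if χ ∈ Cfsg.principalBlock M G then
      (χ : G → ℂ) 1 * tsum P (χ : G → ℂ) else 0) = 0 := by
  have h1 : ∀ χ : IrrCharacter G, (if χ ∈ Cfsg.principalBlock M G then
      (χ : G → ℂ) 1 * tsum P (χ : G → ℂ) else 0) = ∑ y ∈ ordSet P,
        if χ ∈ Cfsg.principalBlock M G then (χ : G → ℂ) y * conj ((χ : G → ℂ) 1) else 0 := fun χ => by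
    split_ifs
    · rw [tsum, Finset.mul_sum]
      refine Finset.sum_congr rfl fun y _ => ?_
      obtain ⟨d, -, hd⟩ := Characters.exists_degree_pos χ.2
      rw [hd, Complex.conj_natCast, mul_comm]
    · simp
  rw [Finset.sum_congr rfl fun χ _ => h1 χ, Finset.sum_comm]
  refine Finset.sum_eq_zero fun y hy => ?_
  rw [h.sum_column hM (mem_ordSet.1 hy).1 (ne_one_of_mem hy) (one_mem _), if_neg]
  rw [isConj_one_left]
  exact ne_one_of_mem hy

open Classical in
/-- `T χ` is an integer congruent to `-χ(1)` modulo the number of solutions of `y ^ p = 1` in `P`. -/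
theorem exists_tsum_eq (h : Semireg P) (χ : IrrCharacter G) :
    ∃ m : ℕ, tsum P (χ : G → ℂ) = (((ordSet P).card + 1 : ℕ) : ℂ) * m - (χ : G → ℂ) 1 := by
  haveI := h.comm
  have hp : p.Prime := Fact.out
  let V : Subgroup G :=
    { carrier := {y | y ∈ (P : Subgroup G) ∧ y ^ p = 1}
      one_mem' := ⟨one_mem _, one_pow p⟩
      mul_mem' := fun {a b} ha hb => ⟨mul_mem ha.1 hb.1, by
        rw [(show Commute a b from congrArg Subtype.val
          (h.comm.is_comm.comm (⟨a, ha.1⟩ : (P : Subgroup G)) ⟨b, hb.1⟩)).mul_pow, ha.2, hb.2,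
          mul_one]⟩
      inv_mem' := fun {a} ha => ⟨inv_mem ha.1, by rw [inv_pow, ha.2, inv_one]⟩ }
  letI := Fintype.ofFinite V
  have hV : ∀ y : G, y ∈ V ↔ y ∈ insert 1 (ordSet P) := fun y => by
    rw [Finset.mem_insert, mem_ordSet]
    refine ⟨fun hy => ?_, fun hy => ?_⟩
    · by_cases hy1 : y = 1
      · exact Or.inl hy1
      · exact Or.inr ⟨hy.1, orderOf_eq_prime hy.2 hy1⟩
    · rcases hy with rfl | ⟨h1, h2⟩
      · exact one_mem V
      · exact ⟨h1, by rw [← h2, pow_orderOf_eq_one]⟩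
  have h1 : (1 : G) ∉ ordSet P := fun h1 => ne_one_of_mem h1 rfl
  obtain ⟨m, hm⟩ := Characters.classInner_characters
    (Characters.isCharacter_restrict V (Characters.isCharacter_of_isIrr χ.2))
    (Characters.isCharacter_of_isIrr (Characters.isIrr_one (G := V)))
  have hs : ∑ v : V, (χ : G → ℂ) v = (χ : G → ℂ) 1 + tsum P (χ : G → ℂ) := by
    rw [tsum, ← Finset.sum_insert (f := fun y => (χ : G → ℂ) y) h1]
    exact (Finset.sum_subtype (insert 1 (ordSet P)) (fun y => (hV y).symm) fun y => (χ : G → ℂ) y).symm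
  have hcard : Nat.card V = (ordSet P).card + 1 := by
    rw [← Finset.card_insert_of_notMem h1, Nat.card_eq_fintype_card,
      Fintype.card_of_subtype (insert 1 (ordSet P)) fun y => (hV y).symm]
  refine ⟨m, ?_⟩
  rw [Cfsg.classInner] at hm
  simp only [map_one, mul_one] at hm
  rw [hs, inv_mul_eq_iff_eq_mul₀ (Nat.cast_ne_zero.2 Nat.card_pos.ne'), hcard] at hm
  linear_combination hm

end CfsgLib.PSolvablePairs
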